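import Cfsg.Agent.Lib.PushUp.OffProd.Global

/-!
# The abelian offenders lie in the product of the members
-/

set_option autoImplicit false

namespace Cfsg.Agent.OffProd

open Cfsg Cfsg.Agent Cfsg.Agent.Fusion Cfsg.Agent.BestOff

universe u v

variable {P : Type u} [Group P] {X : Type v} [AddCommGroup X] {φ : P →* AddMonoid.End X} {p : ℕ}

theorem card_cen_cj (B : Subgroup P) (g : P) : Nat.card (cen φ (cj B g)) = Nat.card (cen φ B) :=
  (Nat.card_congr
    { toFun := fun v : cen φ B => (⟨φ g v, act_mem_cen φ g v.2⟩ : cen φ (cj B g))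
      invFun := fun v => ⟨φ g⁻¹ v, by
        have := act_mem_cen φ g⁻¹ v.2
        rwa [cj_cj_inv] at this⟩
      left_inv := fun v => Subtype.ext (act_inv_self φ g v)
      right_inv := fun v => Subtype.ext (act_self_inv φ g v) }).symm

variable [Finite P] [Finite X] [hp : Fact p.Prime] {M T : Subgroup P} (K : Ctx φ p M)

variable (φ p M T) in
/-- A member of `T` with its natural `SL₂`. -/
structure Blk (D H : Subgroup P) (t : P) : Prop where
  mem : D ∈ mems φ p T
  frame : Frame φ p M T (mems φ p T \ {D})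
  le : H ≤ stab (mems φ p T \ {D}) ⊓ Subgroup.normalizer ((T ⊓ kerN M (mems φ p T \ {D}) : Subgroup P) : Set P)
  nat : NatH φ M D H t

omit [Finite P] [Finite X] hp in
theorem Blk.not_mem {D H : Subgroup P} {t : P} (_b : Blk φ p M T D H t) : D ∉ mems φ p T \ {D} := fun h => h.2 rfl

include K

theorem exists_blk (hT : SylIn p T ⊤) (hTM : T ≤ M) {D : Subgroup P} (hD : D ∈ mems φ p T) :
    ∃ H t, Blk φ p M T D H t := by
  obtain ⟨T₁, R₁, F₁⟩ := K.exists_frame hD.1
  obtain ⟨m, hm, hmT⟩ := (F₁.syl.mono F₁.le_M le_top).conj_eq (hT.mono hTM le_top)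
  have F := F₁.translate K hm
  rw [hmT] at F
  obtain ⟨R, F, hDR⟩ : ∃ R, Frame φ p M T R ∧ D ∉ R := by
    by_cases h : D ∈ cjS m R₁
    · obtain ⟨g, hg, -, hout⟩ := F.exists_outside K h
      exact ⟨_, F.translate_of_mem K hg, hout⟩
    · exact ⟨_, F, h⟩
  have hR : mems φ p T \ {D} = R := by
    ext B
    constructor
    · rintro ⟨hB, hBD⟩
      by_contra hBR
      exact hBD (F.eq_of_not_mem K hB hBR hD hDR)
    · exact fun hB => ⟨F.sub hB, fun e => hDR (Set.mem_singleton_iff.1 e ▸ hB)⟩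
  obtain ⟨H, t, hH, N⟩ := F.exists_natH₀ K (F.cls_of_mems hD hDR (F.mem_le_stab K hD)) hD.2
  exact ⟨H, t, hD, hR ▸ F, hR ▸ hH, N⟩

namespace Blk

variable {D E H G : Subgroup P} {t s : P} (b : Blk φ p M T D H t) (c : Blk φ p M T E G s)
include b

theorem cls : Cls φ p M (mems φ p T \ {D}) D :=
  b.frame.cls_of_mems b.mem b.not_mem (b.frame.mem_le_stab K b.mem)

theorem neg_le_fixed_of_ne (hED : E ∈ mems φ p T) (hne : E ≠ D) : neg φ t ≤ fixed φ E :=
  (b.frame.neg_le_fixed K (b.cls K) b.mem.2 (b.le.trans inf_le_right) b.nat).trans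
    (fixed_anti φ (b.frame.le_kerN ⟨hED, hne⟩))

theorem stab_le_normalizer : stab (mems φ p T \ {D}) ≤ Subgroup.normalizer (H : Set P) :=
  b.frame.stab_le_normalizer K b.mem b.not_mem (b.le.trans inf_le_left) b.nat

theorem stab_eq {g : P} (hg : g ∈ stab (mems φ p T)) (hgD : cj D g = D) : g ∈ stab (mems φ p T \ {D}) :=
  mem_stab_of_maps fun B hB => ⟨cj_mem_of_stab hg hB.1, fun e => hB.2 (by
    have h1 : cj B g = cj D g := hgD.symm ▸ Set.mem_singleton_iff.1 e
    have := congrArg (fun A => cj A g⁻¹) h1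
    simpa only [cj_cj_inv, Set.mem_singleton_iff] using this)⟩

include c

theorem cen_le_fixed (hne : E ≠ D) : cen φ E ≤ fixed φ H :=
  (b.frame.pair_aux K c.frame (fun _ hB => c.frame.mem_le_stab K hB.1) (⟨b.mem, hne.symm⟩ : D ∈ mems φ p T \ {E})
    (b.cls K) b.le b.nat).2 E ⟨⟨c.mem, hne⟩, fun h => h.2 rfl⟩

theorem commute_mem (hne : E ≠ D) {h e : P} (hh : h ∈ H) (he : e ∈ E) : Commute h e := by
  refine commutatorElement_eq_one_iff_commute.1 (K.faithful _ fun v => ?_)
  have key : ∀ v, φ (h * e) v = φ (e * h) v := fun v => by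
    obtain ⟨u, hu, hw, -⟩ := b.nat.split K v
    have h1 : φ e u = u := b.neg_le_fixed_of_ne K c.mem hne hu e he
    have h2 : φ e (φ h u) = φ h u := b.neg_le_fixed_of_ne K c.mem hne (b.nat.neg_act hh hu) e he
    have h3 : φ h (φ e (v - u)) = φ e (v - u) := by
      have h4 := b.cen_le_fixed K c hne (sub_mem_cen φ he (v - u)) h hh
      rw [map_sub, hw h hh] at h4
      calc φ h (φ e (v - u)) = (φ h (φ e (v - u)) - (v - u)) + (v - u) := by abel
        _ = _ := by rw [h4, sub_add_cancel]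
    calc φ (h * e) v = φ h (φ e (v - u)) + φ h (φ e u) := by rw [act_mul, ← map_add, ← map_add, sub_add_cancel]
      _ = φ e (φ h (v - u)) + φ e (φ h u) := by rw [h3, h1, h2, hw h hh]
      _ = _ := by rw [act_mul, ← map_add, ← map_add, sub_add_cancel]
  rw [commutatorElement_def, mul_assoc (h * e), ← mul_inv_rev, act_mul, key, ← act_mul, mul_inv_cancel, act_one]

theorem t_normalizes (hne : E ≠ D) : t ∈ Subgroup.normalizer (G : Set P) := by
  refine c.stab_le_normalizer K (c.stab_eq K (mem_stab_of_maps fun B hB => ?_) (cj_eq_self ?_))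
  · suffices t ∈ Subgroup.normalizer (B : Set P) from (cj_eq_self this).symm ▸ hB
    refine Subgroup.centralizer_le_normalizer _ (Subgroup.mem_centralizer_iff.2 fun x hx => ?_)
    by_cases hBD : B = D
    · subst hBD
      exact (b.nat.t_comm x (b.nat.C_le hx)).eq.symm
    · obtain ⟨G', s', c'⟩ := exists_blk K b.frame.syl b.frame.le_M hB
      exact (b.commute_mem K c' hBD b.nat.t_mem hx).eq.symm
  · exact Subgroup.centralizer_le_normalizer _ (Subgroup.mem_centralizer_iff.2 fun x hx =>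
      (b.commute_mem K c hne b.nat.t_mem hx).eq.symm)

theorem neg_le_fixedH (hne : E ≠ D) : neg φ s ≤ fixed φ H := by
  have hne' : D ≠ E := hne.symm
  have ht2 : ∀ v, φ t (φ t v) = v := fun v => by rw [← act_mul, b.nat.t_sq, act_one]
  have hn := b.t_normalizes K c hne
  have hW : ∀ w ∈ fixed φ G, φ t w ∈ fixed φ G := fun w hw => by
    have := act_mem_fixed φ t hw
    rwa [cj_eq_self hn] at this
  -- the displacement is fixed by `G`
  have hd : ∀ u ∈ neg φ s, φ t u - u ∈ fixed φ G := by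
    intro u hu
    obtain ⟨u', hu', hw, -⟩ := c.nat.split K (φ t u)
    have hd : u' - u ∈ cen φ E := by
      refine c.nat.fix_cen _ (fun e he => ?_) (sub_mem hu' hu)
      have h1 : φ t (φ e u - u) = φ e u - u := b.cen_le_fixed K c hne (sub_mem_cen φ he u) t b.nat.t_mem
      rw [map_sub, ← act_mul, (b.commute_mem K c hne b.nat.t_mem he).eq, act_mul] at h1
      have h2 : φ e (φ t u - u') = φ t u - u' := hw e (c.nat.C_le he)
      rw [map_sub] at h2 ⊢
      calc φ e u' - φ e u = (φ e (φ t u) - φ t u) - (φ e u - u) + (u' - u) +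
            ((φ t u - u') - (φ e (φ t u) - φ e u')) := by abel
        _ = u' - u := by rw [h1, h2, sub_self, sub_self, zero_add, add_zero]
    set d := u' - u
    set w := φ t u - u'
    have htd : φ t d = d := b.cen_le_fixed K c hne hd t b.nat.t_mem
    have e1 : φ t u = u + d + w := by simp only [d, w]; abel
    have h3 := ht2 u
    rw [e1, map_add, map_add, e1, htd] at h3
    have h4 : d + d = -(φ t w + w) := by
      rw [← sub_eq_zero]
      calc d + d - -(φ t w + w) = (u + d + w + d + φ t w) - u := by abel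
        _ = 0 := by rw [h3, sub_self]
    have h5 : d + d = 0 := c.nat.neg_fixed K (c.nat.cen_neg (add_mem hd hd))
      (h4 ▸ neg_mem (add_mem (hW w hw) hw))
    have h6 : d = 0 := eq_zero_of_eq_neg hp.out K.two (K.exp d) (eq_neg_of_add_eq_zero_left h5)
    rw [e1, h6, add_zero, add_sub_cancel_left]
    exact hw
  have heq : ∀ u ∈ neg φ s, ∀ g ∈ G, φ t (φ g u) - φ g u = φ t u - u := by
    intro u hu g hg
    have hg' : t * g * t⁻¹ ∈ G := (Subgroup.mem_normalizer_iff.1 hn g).1 hg
    set δ := φ t u - u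
    have e1 : φ t (φ g u) = φ (t * g * t⁻¹) u + δ := by
      calc φ t (φ g u) = φ (t * g * t⁻¹) (φ t u) := by rw [← act_mul, ← act_mul]; congr 2; group
        _ = φ (t * g * t⁻¹) (u + δ) := by simp only [δ, add_sub_cancel]
        _ = _ := by rw [map_add, hd u hu _ hg']
    have hδ' := hd _ (c.nat.neg_act hg hu)
    have h0 : φ (t * g * t⁻¹) u - φ g u = 0 := c.nat.neg_fixed K
      (sub_mem (c.nat.neg_act hg' hu) (c.nat.neg_act hg hu)) (by
      have e : φ (t * g * t⁻¹) u - φ g u = (φ t (φ g u) - φ g u) - δ := by rw [e1]; abel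
      rw [e]
      exact sub_mem hδ' (hd u hu))
    rw [e1, add_sub_right_comm, h0, zero_add]
  obtain ⟨g, hg, hgM⟩ := c.nat.exH
  have hcen : ∀ l ∈ cen φ E, φ t l = l := fun l hl => b.cen_le_fixed K c hne hl t b.nat.t_mem
  intro u hu
  refine b.nat.t_fix u ?_
  obtain ⟨l, hl, l', hl', rfl⟩ := c.nat.exists_add K hg hgM hu
  have hl0 := act_mem_cen φ g⁻¹ hl'
  rw [cj_cj_inv] at hl0
  have h := heq _ (c.nat.cen_neg hl0) g hg
  rw [act_self_inv, hcen _ hl0, sub_self, sub_eq_zero] at h
  rw [map_add, h, hcen l hl]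

theorem commute_blk (hne : E ≠ D) {h g : P} (hh : h ∈ H) (hg : g ∈ G) : Commute h g := by
  refine commutatorElement_eq_one_iff_commute.1 (K.faithful _ fun v => ?_)
  have key : ∀ v, φ (h * g) v = φ (g * h) v := fun v => by
    obtain ⟨u, hu, hw, -⟩ := b.nat.split K v
    obtain ⟨u₂, hu₂, hw₂, -⟩ := c.nat.split K (v - u)
    have hu2H := b.neg_le_fixedH K c hne hu₂
    have huG := c.neg_le_fixedH K b hne.symm hu
    have hgu := b.neg_le_fixedH K c hne (c.nat.neg_act hg hu₂) h hh
    have hhu := c.neg_le_fixedH K b hne.symm (b.nat.neg_act hh hu) g hg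
    have hw₂H : φ h (v - u - u₂) = v - u - u₂ := by rw [map_sub, hw h hh, hu2H h hh]
    have e : v = (v - u - u₂) + u₂ + u := by abel
    rw [e, map_add, map_add, map_add, map_add, act_mul, act_mul, act_mul, act_mul, act_mul, act_mul,
      hw₂ g hg, hw₂H, hgu, huG g hg, hu2H h hh, hhu, hw₂ g hg]
  rw [commutatorElement_def, mul_assoc (h * g), ← mul_inv_rev, act_mul, key, ← act_mul, mul_inv_cancel, act_one]

omit c

/-- An element of `T` fixing `D` acts on the plane as an element of `D`. -/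
theorem restrict {x : P} (hx : x ∈ T) (hxD : cj D x = D)
    (hL : (∀ l ∈ cen φ D, φ x l = l) ∨ ∀ d ∈ D, Commute x d) :
    ∃ d ∈ D, ∀ u ∈ neg φ t, φ (d⁻¹ * x) u = u := by
  have hC := b.cls K
  have hH := b.le.trans inf_le_left
  obtain ⟨h, hh, hhM⟩ := b.nat.exH
  have hxs : x ∈ stab (mems φ p T \ {D}) := b.stab_eq K (le_stab_mems T hx) hxD
  have hxM : x * h ∉ M := fun e => hhM (by simpa using mul_mem (inv_mem (b.frame.le_M hx)) e)
  obtain ⟨d, hd, hdx⟩ := (b.frame.class_cases K hC hH b.nat hh hhM (mul_mem hxs (hH hh))).resolve_left hxM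
  refine ⟨d, hd, ?_⟩
  set e := d⁻¹ * x with he
  have heT : e ∈ T := mul_mem (T.inv_mem (b.mem.2 hd)) hx
  have hes : e ∈ stab (mems φ p T \ {D}) :=
    mul_mem (Subgroup.inv_mem _ (hC.le_stab hd)) hxs
  have hem : h⁻¹ * e * h ∈ M := by simpa [he, mul_assoc] using hdx
  have hDh : cj (cj D h) e = cj D h := by
    rw [cj_cj, show e * h = h * (h⁻¹ * e * h) by group, ← cj_cj,
      b.frame.cls_eq K (hC.cj (mul_mem (mul_mem (inv_mem (hH hh)) hes) (hH hh)) hem) b.mem b.not_mem]
  have hL' : ∀ v ∈ cen φ (cj D h), φ e v ∈ cen φ (cj D h) := fun v hv => by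
    have := act_mem_cen φ e hv
    rwa [hDh] at this
  -- a fixed vector on the other line
  obtain ⟨u₀, hu₀, hu₀0, hu₀e⟩ : ∃ u ∈ cen φ (cj D h), u ≠ 0 ∧ φ e u = u := by
    classical
    obtain ⟨v, hv, hv0⟩ := (b.mem.1.cj h).exists_cen_ne K
    let f : X → X := fun w => φ e w - w
    have hf : ∀ n, f^[n] v ∈ cen φ (cj D h) := fun n => by
      induction n with
      | zero => exact hv
      | succ n ih => rw [Function.iterate_succ_apply']; exact sub_mem (hL' _ ih) ih
    obtain ⟨k, hk⟩ := b.frame.syl.isPGroup ⟨e, heT⟩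
    have hex : ∃ n, f^[n] v = 0 := by
      refine ⟨p ^ k, ?_⟩
      haveI : Nontrivial X := ⟨v, 0, hv0⟩
      haveI := PGV.end_charP (p := p) K.exp
      have h1 : ∀ n, f^[n] v = ((φ e - 1) ^ n) v := fun n => by
        induction n with
        | zero => rfl
        | succ n ih => rw [Function.iterate_succ_apply', ih, pow_succ']; rfl
      rw [h1, sub_pow_char_pow_of_commute (p := p) (n := k) (Commute.one_right (φ e)), one_pow, ← map_pow,
        show e ^ p ^ k = 1 from congrArg Subtype.val hk, map_one, sub_self]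
      rfl
    have hn := Nat.find_spec hex
    have hne : Nat.find hex ≠ 0 := fun e0 => by rw [e0] at hn; exact hv0 hn
    refine ⟨f^[Nat.find hex - 1] v, hf _, Nat.find_min hex (by omega), ?_⟩
    rw [show Nat.find hex = (Nat.find hex - 1) + 1 by omega, Function.iterate_succ_apply'] at hn
    exact sub_eq_zero.1 hn
  have hu₀C : u₀ ∉ fixed φ D := fun h' => hu₀0 (b.nat.disjoint' K hh hhM hu₀ h')
  -- the base line is fixed pointwise
  have hbase : ∀ l ∈ cen φ D, φ e l = l := by
    intro l hl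
    rcases hL with hL | hL
    · rw [he, act_mul, hL l hl]
      exact b.nat.cen_fix hl _ (D.inv_mem hd)
    · obtain ⟨c, hc, rfl⟩ := b.nat.onto u₀ hu₀C l hl
      have hce : Commute e c := ((b.mem.1.comm d hd c hc).inv_left).mul_left (hL c hc)
      rw [map_sub, ← act_mul, hce.eq, act_mul, hu₀e]
  obtain ⟨c, hc, hcu⟩ : ∃ c ∈ D, φ c u₀ ≠ u₀ := by
    by_contra hcon
    simp only [not_exists, not_and, not_not] at hcon
    exact hu₀C hcon
  have hch : c * h ∈ H := mul_mem (b.nat.C_le hc) hh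
  have hchM : c * h ∉ M := fun e' => hhM (by simpa using mul_mem (inv_mem (hC.le_M hc)) e')
  have hcne : (h⁻¹ : P) * (c * h) ∉ M := fun e' => by
    have := b.frame.tc K hC hc (hH hh) hhM (mem_cj.2 (by rwa [mul_assoc]))
    exact hcu (by rw [this, act_one])
  obtain ⟨a1, a2, a3, a4⟩ := b.frame.cls_cj K hC hH b.nat hh hhM hch
  obtain ⟨b1, b2, b3, b4⟩ := b.frame.cls_cj K hC hH b.nat hh hhM hh
  have hfix : φ e (φ c u₀) = φ c u₀ := by
    have h1 := hbase _ (sub_mem_cen φ hc u₀)
    rw [map_sub, hu₀e, sub_left_inj] at h1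
    exact h1
  -- the third line is invariant
  have hDch : cj (cj D (c * h)) e = cj D (c * h) := by
    have hm : (c * h)⁻¹ * (e * (c * h)) ∈ M := by
      by_contra hm
      have hes' : e * (c * h) ∈ stab (mems φ p T \ {D}) := mul_mem hes (hH hch)
      have hmem : φ c u₀ ∈ cen φ (cj D (c * h)) := by
        rw [← cj_cj]
        exact act_mem_cen φ c hu₀
      have hmem' : φ c u₀ ∈ fixed φ (cj D (e * (c * h))) := by
        rw [← cj_cj, ← hfix]
        exact act_mem_fixed φ e (b.nat.cen_cj_fixed hmem)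
      have h0 := b.frame.cen_inf_fixed K a1 a2 a3 (b.mem.1.cj _)
        ((cj_mono hC.le_stab _).trans (cj_eq_self_of_mem hes').le)
        (fun h' => b.not_mem (by have := cj_mem_of_stab (inv_mem hes') h'; rwa [cj_cj_inv] at this))
        (hH hch) hes' a4 (cj_mono hC.le_M _) hm hmem hmem'
      exact hu₀0 (by simpa [act_inv_self] using congrArg (φ c⁻¹) h0)
    rw [cj_cj, show e * (c * h) = c * h * ((c * h)⁻¹ * (e * (c * h))) by group, ← cj_cj,
      b.frame.cls_eq K (hC.cj (mul_mem (inv_mem (hH hch)) (mul_mem hes (hH hch))) hm) b.mem b.not_mem]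
  have hline : ∀ v ∈ cen φ (cj D h), φ e v = v := by
    intro v hv
    refine sub_eq_zero.1 (b.frame.cen_inf_fixed K b1 b2 b3 a1 a2 a3 (hH hh) (hH hch) b4 a4 hcne
      (sub_mem (hL' v hv) hv) ?_)
    have h1 : φ c v ∈ cen φ (cj D (c * h)) := by
      rw [← cj_cj]
      exact act_mem_cen φ c hv
    have h2 : φ e (φ c v) ∈ cen φ (cj D (c * h)) := by
      have := act_mem_cen φ e h1
      rwa [hDch] at this
    have h3 := hbase _ (sub_mem_cen φ hc v)
    rw [map_sub] at h3
    have e3 : φ e v - v = φ e (φ c v) - φ c v := sub_eq_sub_iff_sub_eq_sub.1 h3 |>.symm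
    rw [e3]
    exact b.nat.cen_cj_fixed (sub_mem h2 h1)
  intro u hu
  obtain ⟨l, hl, l', hl', rfl⟩ := b.nat.exists_add K hh hhM hu
  rw [map_add, hbase l hl, hline l' hl']

end Blk

variable (hT : SylIn p T ⊤) (hTM : T ≤ M)
include hT hTM

/-- Abelian subgroups of `T` with `|X| ≤ |B| |C(B)|` lie in the product of the members. -/
theorem off_le_sSup {B : Subgroup P} (hB : B ≤ T) (hBc : ∀ a ∈ B, ∀ b ∈ B, Commute a b)
    (hoff : Nat.card X ≤ off φ B) : B ≤ sSup (mems φ p T) := by
  suffices H : ∀ n, ∀ B : Subgroup P, Nat.card B = n → B ≤ T → (∀ a ∈ B, ∀ b ∈ B, Commute a b) →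
      Nat.card X ≤ off φ B → B ≤ sSup (mems φ p T) from H _ B rfl hB hBc hoff
  intro n
  induction n using Nat.strong_induction_on with
  | _ n ih =>
    intro B hn hB hBc hoff
    by_cases hB0 : B = ⊥
    · rw [hB0]; exact bot_le
    obtain ⟨D, hDB, hD⟩ := exists_mem_le hB0 (hT.isPGroup.to_le hB) hBc hoff
    have hDm : D ∈ mems φ p T := ⟨hD, hDB.trans hB⟩
    obtain ⟨H, t, b⟩ := exists_blk K hT hTM hDm
    set B₁ := B ⊓ PGV.pstab φ (neg φ t : Set X)
    have hsplit : ∀ x ∈ B, ∃ d ∈ D, d⁻¹ * x ∈ B₁ := fun x hx => by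
      obtain ⟨d, hd, hdu⟩ := b.restrict K (hB hx)
        (cj_eq_self (Subgroup.centralizer_le_normalizer _
          (Subgroup.mem_centralizer_iff.2 fun y hy => (hBc x hx y (hDB hy)).eq.symm)))
        (Or.inr fun d hd => hBc x hx d (hDB hd))
      exact ⟨d, hd, mul_mem (B.inv_mem (hDB hd)) hx, hdu⟩
    obtain ⟨h, hh, hhM⟩ := b.nat.exH
    have hlt : Nat.card B₁ < n := by
      rw [← hn]
      refine lt_of_le_of_ne (Subgroup.card_le_of_le inf_le_left) fun e => ?_
      have e' := Subgroup.eq_of_le_of_card_ge (inf_le_left : B₁ ≤ B) e.ge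
      obtain ⟨v, hv, hv0⟩ := (hD.cj h).exists_cen_ne K
      exact hv0 (b.nat.disjoint' K hh hhM hv fun d hd => (e'.ge (hDB hd)).2 v (b.nat.cen_cj_neg hh hv))
    refine fun x hx => ?_
    have hq : Nat.card (cen φ (cj D h)) = Nat.card D := by rw [card_cen_cj, b.nat.card_cen]
    -- the measure does not drop
    have hcard : Nat.card B ≤ Nat.card D * Nat.card B₁ := by
      rw [← Nat.card_prod]
      choose f hf hf' using fun y : B => hsplit y y.2
      refine Nat.card_le_card_of_injective (fun y => ((⟨f y, hf y⟩ : D), (⟨_, hf' y⟩ : B₁))) fun y z e => ?_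
      simp only [Prod.mk.injEq, Subtype.mk.injEq] at e
      have := e.2
      rw [e.1] at this
      exact Subtype.ext (mul_left_cancel this)
    have hneg : Nat.card (neg φ t) = Nat.card D * Nat.card D := by
      have e1 := PGV.card_inf_mul_sup (cen φ D) (cen φ (cj D h))
      have e2 : cen φ D ⊔ cen φ (cj D h) = neg φ t := le_antisymm
        (sup_le b.nat.cen_neg (b.nat.cen_cj_neg hh)) fun u hu => by
          obtain ⟨l, hl, l', hl', rfl⟩ := b.nat.exists_add K hh hhM hu
          exact add_mem (AddSubgroup.mem_sup_left hl) (AddSubgroup.mem_sup_right hl')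
      have e3 : cen φ D ⊓ cen φ (cj D h) = ⊥ :=
        eq_bot_iff.2 fun v hv => b.nat.disjoint K hh hhM hv.1 (b.nat.cen_cj_fixed hv.2)
      rw [e2, e3, AddSubgroup.card_bot, mul_one, hq, b.nat.card_cen] at e1
      exact e1.symm
    have hfix : Nat.card (fixed φ B) * Nat.card D ≤ Nat.card (fixed φ B₁) := by
      have e1 := PGV.card_inf_mul_sup (fixed φ B) (neg φ t)
      have hint : fixed φ B ⊓ neg φ t ≤ cen φ D := fun v hv => b.nat.fix_cen v (fixed_anti φ hDB hv.1) hv.2
      have hsup : fixed φ B ⊔ neg φ t ≤ fixed φ B₁ :=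
        sup_le (fixed_anti φ inf_le_left) fun v hv y hy => hy.2 v hv
      refine Nat.le_of_mul_le_mul_right ?_ (Nat.card_pos (α := D))
      calc Nat.card (fixed φ B) * Nat.card D * Nat.card D
          = Nat.card ↥(fixed φ B ⊔ neg φ t) * Nat.card ↥(fixed φ B ⊓ neg φ t) := by rw [← e1, hneg, mul_assoc]
        _ ≤ _ := Nat.mul_le_mul (AddSubgroup.card_le_of_le hsup)
          ((AddSubgroup.card_le_of_le hint).trans_eq b.nat.card_cen)
    have hoff₁ : Nat.card X ≤ off φ B₁ := by
      refine hoff.trans ((Nat.mul_le_mul_right _ hcard).trans ?_)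
      calc Nat.card D * Nat.card B₁ * Nat.card (fixed φ B)
          = Nat.card B₁ * (Nat.card (fixed φ B) * Nat.card D) := by ring
        _ ≤ _ := Nat.mul_le_mul_left _ hfix
    obtain ⟨d, hd, hdx⟩ := hsplit x hx
    rw [show x = d * (d⁻¹ * x) by group]
    exact mul_mem (le_sSup hDm hd)
      (ih _ hlt B₁ rfl (inf_le_left.trans hB) (fun a ha c hc => hBc a ha.1 c hc.1) hoff₁ hdx)

/-- An element of `T` fixing the fixed vectors of the product lies in it. -/
theorem fix_le_sSup {x : P} (hx : x ∈ T) (hfix : ∀ v ∈ fixed φ (sSup (mems φ p T)), φ x v = v) :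
    x ∈ sSup (mems φ p T) := by
  classical
  set E := sSup (mems φ p T)
  choose Hb tb hblk using fun D : mems φ p T => exists_blk K hT hTM D.2
  have hET : E ≤ T := sSup_le fun D hD => hD.2
  have hfixE : ∀ {v : X}, (∀ D : mems φ p T, v ∈ fixed φ (D : Subgroup P)) → v ∈ fixed φ E := fun {v} hv => by
    have hle : E ≤ PGV.pstab φ {v} := sSup_le fun D hD d hd w hw => Set.mem_singleton_iff.1 hw ▸ hv ⟨D, hD⟩ d hd
    exact fun e he => hle he v rfl
  have hcenE : ∀ D : mems φ p T, cen φ (D : Subgroup P) ≤ fixed φ E := fun D v hv => hfixE fun D' => by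
    by_cases h : D' = D
    · subst h; exact (hblk D').nat.cen_fix hv
    · exact (hblk D).neg_le_fixed_of_ne K D'.2 (fun e => h (Subtype.ext e)) ((hblk D).nat.cen_neg hv)
  have : Fintype (mems φ p T) := Fintype.ofFinite _
  suffices H : ∀ s : Finset (mems φ p T), ∃ e ∈ E, ∀ D ∈ s, ∀ u ∈ neg φ (tb D), φ (e⁻¹ * x) u = u by
    obtain ⟨e, he, heu⟩ := H Finset.univ
    have h1 : e⁻¹ * x = 1 := K.faithful _ fun v => by
      have hfix' : ∀ v ∈ fixed φ E, φ (e⁻¹ * x) v = v := fun v hv => by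
        rw [act_mul, hfix v hv, hv e⁻¹ (inv_mem he)]
      have H2 : ∀ s : Finset (mems φ p T), ∃ f : X, φ (e⁻¹ * x) f = f ∧
          ∀ D ∈ s, v - f ∈ fixed φ (Hb D) := by
        intro s
        induction s using Finset.induction_on with
        | empty => exact ⟨0, map_zero _, by simp⟩
        | insert D s hDs ih =>
          obtain ⟨f, hf, hfs⟩ := ih
          obtain ⟨u, hu, hw, -⟩ := (hblk D).nat.split K (v - f)
          refine ⟨f + u, by rw [map_add, hf, heu D (Finset.mem_univ _) u hu], fun D' hD' => ?_⟩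
          rw [← sub_sub]
          rcases Finset.mem_insert.1 hD' with rfl | hD'
          · exact hw
          · exact sub_mem (hfs D' hD') ((hblk D').neg_le_fixedH K (hblk D)
              (fun e' => hDs (Subtype.ext e' ▸ hD')) hu)
      obtain ⟨f, hf, hfs⟩ := H2 Finset.univ
      have := hfix' _ (hfixE fun D => fixed_anti φ (hblk D).nat.C_le (hfs D (Finset.mem_univ _)))
      rw [map_sub, hf, sub_left_inj] at this
      exact this
    rw [← inv_mul_eq_one.1 h1]
    exact he
  intro s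
  induction s using Finset.induction_on with
  | empty => exact ⟨1, one_mem E, by simp⟩
  | insert D s hDs ih =>
    obtain ⟨e, he, hes⟩ := ih
    set y := e⁻¹ * x
    have hy : y ∈ T := mul_mem (T.inv_mem (hET he)) hx
    have hL : ∀ l ∈ cen φ (D : Subgroup P), φ y l = l := fun l hl => by
      rw [act_mul, hfix l (hcenE D hl), hcenE D hl e⁻¹ (inv_mem he)]
    have hyD : cj (D : Subgroup P) y = D := by
      by_contra hne
      have hm : cj (D : Subgroup P) y ∈ mems φ p T := cj_mem_of_stab (le_stab_mems T hy) D.2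
      obtain ⟨G, s', c⟩ := exists_blk K hT hTM hm
      obtain ⟨l, hl, hl0⟩ := D.2.1.exists_cen_ne K
      have := act_mem_cen φ y hl
      rw [hL l hl] at this
      exact hl0 ((hblk D).nat.neg_fixed K ((hblk D).nat.cen_neg hl) ((hblk D).cen_le_fixed K c hne this))
    obtain ⟨d, hd, hdu⟩ := (hblk D).restrict K hy hyD (Or.inl hL)
    refine ⟨e * d, mul_mem he (le_sSup D.2 hd), fun D' hD' u hu => ?_⟩
    rw [mul_inv_rev, mul_assoc]
    rcases Finset.mem_insert.1 hD' with rfl | hD'
    · exact hdu u hu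
    · rw [act_mul, hes D' hD' u hu]
      exact (hblk D').neg_le_fixed_of_ne K D.2 (fun e' => hDs (Subtype.ext e' ▸ hD')) hu _
        ((D : Subgroup P).inv_mem hd)

/-- When the product generates normally, `P` is `SL₂`. -/
theorem iso_of_closure {D : Subgroup P} (hD : D ∈ mems φ p T)
    (hgen : ∀ N : Subgroup P, N.Normal → sSup (mems φ p T) ≤ N → N = ⊤) :
    ∃ (F : Type v) (_ : Field F) (_ : Fintype F) (n : ℕ), 1 ≤ n ∧ Fintype.card F = p ^ n ∧
      Nonempty (P ≃* Matrix.SpecialLinearGroup (Fin 2) F) := by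
  choose Hb tb hblk using fun D : mems φ p T => exists_blk K hT hTM D.2
  set N := ⨆ D, Hb D
  have hblkle : ∀ D, Hb D ≤ N := le_iSup Hb
  have hkey : ∀ (D D' : mems φ p T) (g : P), cj (D : Subgroup P) g = D' → g ∈ T → cj (Hb D) g ≤ Hb D' := by
    intro D D' g e hg
    obtain ⟨h, hh, hhM⟩ := (hblk D).nat.exH
    nth_rewrite 1 [← (hblk D).nat.gen h hh hhM]
    rw [cj_sup, e, cj_cj, show g * h = g * h * g⁻¹ * g by group, ← cj_cj, e]
    refine sup_le (hblk D').nat.C_le ((cj_mono (hblk D').nat.C_le _).trans (cj_eq_self ?_).le)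
    refine (hblk D').stab_le_normalizer K ?_
    have hR : mems φ p T \ {(D' : Subgroup P)} = cjS g (mems φ p T \ {(D : Subgroup P)}) := by
      ext B
      rw [mem_cjS]
      constructor
      · rintro ⟨hB, hBD⟩
        exact ⟨cj_mem_of_stab (inv_mem (le_stab_mems T hg)) hB, fun e' => hBD (by
          rw [← e, ← Set.mem_singleton_iff.1 e', cj_inv_cj]; rfl)⟩
      · rintro ⟨hB, hBD⟩
        refine ⟨by simpa only [cj_inv_cj] using cj_mem_of_stab (le_stab_mems T hg) hB, fun e' => hBD ?_⟩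
        rw [Set.mem_singleton_iff.1 e', ← e, cj_cj_inv]; rfl
    rw [hR, stab_cjS]
    exact conj_mem_cj ((hblk D).le hh).1
  have hTN : T ≤ Subgroup.normalizer (N : Set P) := fun g hg => mem_normalizer_of_cj_le (by
    rw [cj_le_iff]
    refine iSup_le fun D => cj_le_iff.1 ?_
    exact (hkey D ⟨_, cj_mem_of_stab (le_stab_mems T hg) D.2⟩ g rfl hg).trans (hblkle _))
  set C : mems φ p T := ⟨D, hD⟩
  obtain ⟨h, hh, hhM⟩ := (hblk C).nat.exH
  have hNn : Subgroup.normalizer (N : Set P) = ⊤ := by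
    by_contra hne
    exact hhM (K.uniq T hT hTM _ hTN hne (Subgroup.le_normalizer (hblkle C hh)))
  have hNtop : N = ⊤ := hgen N (Subgroup.normalizer_eq_top_iff.1 hNn)
    (sSup_le fun B hB => (hblk ⟨B, hB⟩).nat.C_le.trans (hblkle _))
  have hall : ∀ D, Subgroup.normalizer (Hb D : Set P) = ⊤ := fun D => top_le_iff.1 (by
    rw [← hNtop]
    refine iSup_le fun D' => ?_
    by_cases h : D' = D
    · rw [h]; exact Subgroup.le_normalizer
    · refine fun x hx => Subgroup.centralizer_le_normalizer _ (Subgroup.mem_centralizer_iff.2 fun y hy => ?_)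
      exact ((hblk D).commute_blk K (hblk D') (fun e => h (Subtype.ext e)) hy hx).eq)
  -- `T` fixes every member
  have hTfix : ∀ g ∈ T, ∀ D : mems φ p T, cj (D : Subgroup P) g = D := by
    intro g hg D
    by_contra hne
    set D' : mems φ p T := ⟨_, cj_mem_of_stab (le_stab_mems T hg) D.2⟩
    haveI : (Hb D).Normal := Subgroup.normalizer_eq_top_iff.1 (hall D)
    have h1 : Hb D ≤ Hb D' := (cj_of_normal _ g).ge.trans (hkey D D' g rfl hg)
    obtain ⟨h, hh, hhM⟩ := (hblk D).nat.exH
    refine (hblk D).frame.not_le_M K D.2.1 ((hblk D).cls K).le_stab (hblk D).not_mem ((hblk D).cls K).le_M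
      ((hblk D).le hh).1 hhM ?_
    rw [cj_eq_self (Subgroup.centralizer_le_normalizer _ (Subgroup.mem_centralizer_iff.2 fun y hy =>
      ((hblk D).commute_blk K (hblk D') hne ((hblk D).nat.C_le hy) (h1 hh)).eq))]
    exact ((hblk D).cls K).le_M
  have hR : mems φ p T \ {(C : Subgroup P)} = ∅ := Set.eq_empty_iff_forall_notMem.2 fun B hB => by
    obtain ⟨g, hg, hgR, -⟩ := (hblk C).frame.exists_outside K hB
    exact hgR ((hblk C).stab_eq K (le_stab_mems T hg) (hTfix g hg C))
  have hCtop : Hb C = ⊤ := by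
    refine hgen _ (Subgroup.normalizer_eq_top_iff.1 (hall C)) (sSup_le fun B hB => ?_)
    by_cases hBC : B = (C : Subgroup P)
    · exact hBC ▸ (hblk C).nat.C_le
    · exact absurd (show B ∈ mems φ p T \ {(C : Subgroup P)} from ⟨hB, hBC⟩) (by rw [hR]; exact id)
  obtain ⟨F, i1, i2, hcard, ⟨iso⟩⟩ := (hblk C).nat.iso
  obtain ⟨n, hn⟩ := IsPGroup.iff_card.1 hD.1.isP
  refine ⟨F, i1, i2, n, ?_, hcard.trans hn, ⟨((MulEquiv.subgroupCongr hCtop).trans Subgroup.topEquiv).symm.trans iso⟩⟩
  by_contra h0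
  rw [Nat.lt_one_iff.1 (not_le.1 h0), pow_zero] at hn
  exact hD.1.ne (Subgroup.card_eq_one.1 hn)

end Cfsg.Agent.OffProd
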