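import Cfsg.Agent.Lib.PushUp.OffProd.Product

/-!
# No abelian subgroup is more than an offender
-/

set_option autoImplicit false

namespace Cfsg.Agent.OffProd

open Cfsg Cfsg.Agent Cfsg.Agent.Fusion Cfsg.Agent.BestOff

universe u v

variable {P : Type u} [Group P] {X : Type v} [AddCommGroup X] {φ : P →* AddMonoid.End X} {p : ℕ}
variable [Finite P] [Finite X] [hp : Fact p.Prime] {M T : Subgroup P} (K : Ctx φ p M)
include K

/-- `|B| |C_X(B)| ≤ |X|` for the abelian subgroups of a Sylow subgroup. -/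
theorem off_le_card (hT : SylIn p T ⊤) (hTM : T ≤ M) {B : Subgroup P} (hB : B ≤ T)
    (hBc : ∀ a ∈ B, ∀ b ∈ B, Commute a b) : off φ B ≤ Nat.card X := by
  suffices H : ∀ n, ∀ B : Subgroup P, Nat.card B = n → B ≤ T → (∀ a ∈ B, ∀ b ∈ B, Commute a b) →
      off φ B ≤ Nat.card X from H _ B rfl hB hBc
  intro n
  induction n using Nat.strong_induction_on with
  | _ n ih =>
    intro B hn hB hBc
    by_cases hB0 : B = ⊥
    · rw [hB0, off_bot]
    rcases lt_or_ge (off φ B) (Nat.card X) with h' | hoff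
    · exact h'.le
    obtain ⟨D, hDB, hD⟩ := exists_mem_le hB0 (hT.isPGroup.to_le hB) hBc hoff
    have hDm : D ∈ mems φ p T := ⟨hD, hDB.trans hB⟩
    obtain ⟨H, t, b⟩ := exists_blk K hT hTM hDm
    set B₁ := B ⊓ PGV.pstab φ (neg φ t : Set X)
    have hsplit : ∀ x ∈ B, ∃ d ∈ D, d⁻¹ * x ∈ B₁ := fun x hx => by
      obtain ⟨d, hd, hdu⟩ := b.restrict K (hB hx)
        (cj_eq_self (Subgroup.centralizer_le_normalizer _
          (Subgroup.mem_centralizer_iff.2 fun y hy => (hBc x hx y (hDB hy)).eq.symm)))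
        (Or.inr fun d hd => hBc x hx d (hDB hd))
      exact ⟨d, hd, mul_mem (B.inv_mem (hDB hd)) hx, hdu⟩
    obtain ⟨h, hh, hhM⟩ := b.nat.exH
    have hlt : Nat.card B₁ < n := by
      rw [← hn]
      refine lt_of_le_of_ne (Subgroup.card_le_of_le inf_le_left) fun e => ?_
      have e' := Subgroup.eq_of_le_of_card_ge (inf_le_left : B₁ ≤ B) e.ge
      obtain ⟨v, hv, hv0⟩ := (hD.cj h).exists_cen_ne K
      exact hv0 (b.nat.disjoint' K hh hhM hv fun d hd => (e'.ge (hDB hd)).2 v (b.nat.cen_cj_neg hh hv))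
    have hq : Nat.card (cen φ (cj D h)) = Nat.card D := by rw [card_cen_cj, b.nat.card_cen]
    have hcard : Nat.card B ≤ Nat.card D * Nat.card B₁ := by
      rw [← Nat.card_prod]
      choose f hf hf' using fun y : B => hsplit y y.2
      refine Nat.card_le_card_of_injective (fun y => ((⟨f y, hf y⟩ : D), (⟨_, hf' y⟩ : B₁))) fun y z e => ?_
      simp only [Prod.mk.injEq, Subtype.mk.injEq] at e
      have := e.2
      rw [e.1] at this
      exact Subtype.ext (mul_left_cancel this)
    have hneg : Nat.card (neg φ t) = Nat.card D * Nat.card D := by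
      have e1 := PGV.card_inf_mul_sup (cen φ D) (cen φ (cj D h))
      have e2 : cen φ D ⊔ cen φ (cj D h) = neg φ t := le_antisymm
        (sup_le b.nat.cen_neg (b.nat.cen_cj_neg hh)) fun u hu => by
          obtain ⟨l, hl, l', hl', rfl⟩ := b.nat.exists_add K hh hhM hu
          exact add_mem (AddSubgroup.mem_sup_left hl) (AddSubgroup.mem_sup_right hl')
      have e3 : cen φ D ⊓ cen φ (cj D h) = ⊥ :=
        eq_bot_iff.2 fun v hv => b.nat.disjoint K hh hhM hv.1 (b.nat.cen_cj_fixed hv.2)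
      rw [e2, e3, AddSubgroup.card_bot, mul_one, hq, b.nat.card_cen] at e1
      exact e1.symm
    have hfix : Nat.card (fixed φ B) * Nat.card D ≤ Nat.card (fixed φ B₁) := by
      have e1 := PGV.card_inf_mul_sup (fixed φ B) (neg φ t)
      have hint : fixed φ B ⊓ neg φ t ≤ cen φ D := fun v hv => b.nat.fix_cen v (fixed_anti φ hDB hv.1) hv.2
      have hsup : fixed φ B ⊔ neg φ t ≤ fixed φ B₁ :=
        sup_le (fixed_anti φ inf_le_left) fun v hv y hy => hy.2 v hv
      refine Nat.le_of_mul_le_mul_right ?_ (Nat.card_pos (α := D))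
      calc Nat.card (fixed φ B) * Nat.card D * Nat.card D
          = Nat.card ↥(fixed φ B ⊔ neg φ t) * Nat.card ↥(fixed φ B ⊓ neg φ t) := by rw [← e1, hneg, mul_assoc]
        _ ≤ _ := Nat.mul_le_mul (AddSubgroup.card_le_of_le hsup)
          ((AddSubgroup.card_le_of_le hint).trans_eq b.nat.card_cen)
    calc off φ B ≤ Nat.card D * Nat.card B₁ * Nat.card (fixed φ B) := Nat.mul_le_mul_right _ hcard
      _ = Nat.card B₁ * (Nat.card (fixed φ B) * Nat.card D) := by ring
      _ ≤ off φ B₁ := Nat.mul_le_mul_left _ hfix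
      _ ≤ _ := ih _ hlt B₁ rfl (inf_le_left.trans hB) fun a ha c hc => hBc a ha.1 c hc.1

end Cfsg.Agent.OffProd
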