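import Cfsg.Agent.Lib.PushUp.OffProd.Line

/-!
# The members of a frame seen on the natural module
-/

set_option autoImplicit false

namespace Cfsg.Agent.OffProd

open Cfsg Cfsg.Agent Cfsg.Agent.Fusion Cfsg.Agent.BestOff

universe u v

variable {P : Type u} [Group P] {X : Type v} [AddCommGroup X] {φ : P →* AddMonoid.End X} {p : ℕ}
variable [Finite P] [hp : Fact p.Prime] {M : Subgroup P}

variable (φ p M) in
/-- A member of the frame's class: it lies in `M`, normalizes `R` and is outside `R`. -/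
structure Cls (R : Set (Subgroup P)) (B : Subgroup P) : Prop where
  mem : Mem φ p B
  le_stab : B ≤ stab R
  not_mem : B ∉ R
  le_M : B ≤ M

omit [Finite P] hp in
theorem Cls.cj {R : Set (Subgroup P)} {B : Subgroup P} (h : Cls φ p M R B) {n : P} (hn : n ∈ stab R) (hnM : n ∈ M) :
    Cls φ p M R (cj B n) :=
  ⟨h.mem.cj n, (cj_mono h.le_stab n).trans (cj_eq_self_of_mem hn).le, fun hc => h.not_mem (by
    have := cj_mem_of_stab (inv_mem hn) hc
    rwa [cj_cj_inv] at this), (cj_mono h.le_M n).trans (cj_eq_self_of_mem hnM).le⟩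

namespace NatH

variable {C H : Subgroup P} {t : P} (N : NatH φ M C H t)
include N

omit [Finite P] hp in
theorem neg_act {h : P} (hh : h ∈ H) {u : X} (hu : u ∈ neg φ t) : φ h u ∈ neg φ t := by
  rw [mem_neg, ← act_mul, (N.t_comm h hh).eq, act_mul, mem_neg φ |>.1 hu, map_neg]

omit [Finite P] hp in
theorem cen_cj_neg {h : P} (hh : h ∈ H) : cen φ (Fusion.cj C h) ≤ neg φ t := fun v hv => by
  have h1 := act_mem_cen φ h⁻¹ hv
  rw [cj_cj_inv] at h1
  have := N.neg_act hh (N.cen_neg h1)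
  rwa [act_self_inv] at this

omit [Finite P] hp in
theorem cen_cj_fixed {h : P} : cen φ (Fusion.cj C h) ≤ fixed φ (Fusion.cj C h) := fun v hv => by
  have h1 := act_mem_cen φ h⁻¹ hv
  rw [cj_cj_inv] at h1
  have := act_mem_fixed φ h (N.cen_fix h1)
  rwa [act_self_inv] at this

omit [Finite P] hp in
theorem cj_fix_cen {h : P} (hh : h ∈ H) {v : X} (hv : v ∈ fixed φ (Fusion.cj C h)) (hn : v ∈ neg φ t) :
    v ∈ cen φ (Fusion.cj C h) := by
  have h1 := act_mem_fixed φ h⁻¹ hv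
  rw [cj_cj_inv] at h1
  have := act_mem_cen φ h (N.fix_cen _ h1 (N.neg_act (inv_mem hh) hn))
  rwa [act_self_inv] at this

omit [Finite P] hp in
theorem fixed_both {h : P} (hh : h ∈ H) (hhM : h ∉ M) {v : X} (h1 : v ∈ fixed φ C)
    (h2 : v ∈ fixed φ (Fusion.cj C h)) : v ∈ fixed φ H := by
  have hle : C ⊔ Fusion.cj C h ≤ PGV.pstab φ {v} := sup_le
    (fun c hc w hw => Set.mem_singleton_iff.1 hw ▸ h1 c hc)
    (fun c hc w hw => Set.mem_singleton_iff.1 hw ▸ h2 c hc)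
  rw [N.gen h hh hhM] at hle
  exact fun g hg => hle hg v rfl

variable (K : Ctx φ p M)
include K

omit [Finite P] in
theorem neg_fixed {v : X} (h1 : v ∈ neg φ t) (h2 : v ∈ fixed φ H) : v = 0 := by
  refine eq_zero_of_eq_neg hp.out K.two (K.exp v) ?_
  rw [← mem_neg φ |>.1 h1, h2 t N.t_mem]

omit [Finite P] in
theorem split (v : X) : ∃ u ∈ neg φ t, v - u ∈ fixed φ H ∧
    ∀ (Z : AddSubgroup X), v ∈ Z → φ t v ∈ Z → u ∈ Z := by
  obtain ⟨k, hk⟩ : ∃ k, 2 * k = p + 1 := by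
    obtain ⟨m, hm⟩ := hp.out.odd_of_ne_two K.two
    exact ⟨m + 1, by omega⟩
  have ht2 : ∀ v, φ t (φ t v) = v := fun v => by rw [← act_mul, N.t_sq, act_one]
  have hd : k • v + k • v = v := halve hk (K.exp v)
  refine ⟨k • (v - φ t v), ?_, N.t_fix _ ?_, fun Z h1 h2 => nsmul_mem (sub_mem h1 h2) k⟩
  · rw [mem_neg, map_nsmul, map_sub, ht2, ← smul_neg, neg_sub]
  · rw [map_sub, map_nsmul, map_sub, ht2, nsmul_sub, nsmul_sub]
    have hd' : k • φ t v + k • φ t v = φ t v := halve hk (K.exp _)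
    calc φ t v - (k • φ t v - k • v) = (k • φ t v + k • φ t v) - (k • φ t v - k • v) := by rw [hd']
      _ = (k • v + k • v) - (k • v - k • φ t v) := by abel
      _ = _ := by rw [hd]

omit [Finite P] in
theorem fixed_split {v : X} (hv : v ∈ fixed φ C) : ∃ l ∈ cen φ C, v - l ∈ fixed φ H := by
  obtain ⟨u, hu, hw, -⟩ := N.split K v
  refine ⟨u, N.fix_cen u ?_ hu, hw⟩
  have := sub_mem hv (fixed_anti φ N.C_le hw)
  rwa [sub_sub_cancel] at this

omit [Finite P] in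
theorem disjoint {h : P} (hh : h ∈ H) (hhM : h ∉ M) {v : X} (h1 : v ∈ cen φ C)
    (h2 : v ∈ fixed φ (Fusion.cj C h)) : v = 0 :=
  N.neg_fixed K (N.cen_neg h1) (N.fixed_both hh hhM (N.cen_fix h1) h2)

omit [Finite P] in
theorem disjoint' {h : P} (hh : h ∈ H) (hhM : h ∉ M) {v : X} (h1 : v ∈ cen φ (Fusion.cj C h))
    (h2 : v ∈ fixed φ C) : v = 0 :=
  N.neg_fixed K (N.cen_cj_neg hh h1) (N.fixed_both hh hhM h2 (N.cen_cj_fixed h1))

omit [Finite P] in
theorem exists_add {h : P} (hh : h ∈ H) (hhM : h ∉ M) {u : X} (hu : u ∈ neg φ t) :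
    ∃ l ∈ cen φ C, ∃ l' ∈ cen φ (Fusion.cj C h), u = l + l' := by
  obtain ⟨α, hα, β, hβ, e⟩ := AddSubgroup.mem_sup.1 ((N.sup h hh hhM).ge (AddSubgroup.mem_top u))
  obtain ⟨l, hl, hlw⟩ := N.fixed_split K hα
  obtain ⟨l', hl', hlw', -⟩ := N.split K β
  have hl'' : l' ∈ cen φ (Fusion.cj C h) := N.cj_fix_cen hh (by
    have := sub_mem hβ (fixed_anti φ ((cj_mono N.C_le h).trans (cj_eq_self_of_mem hh).le) hlw')
    rwa [sub_sub_cancel] at this) hl'
  refine ⟨l, hl, l', hl'', sub_eq_zero.1 (N.neg_fixed K (sub_mem hu (add_mem (N.cen_neg hl) hl')) ?_)⟩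
  have : u - (l + l') = (α - l) + (β - l') := by rw [← e]; abel
  rw [this]
  exact add_mem hlw hlw'

omit [Finite P] in
/-- Every line of the plane off the base line is a translate by `C` of another one. -/
theorem exists_line {h : P} (hh : h ∈ H) (hhM : h ∉ M) (hCM : C ≤ M) (v : X) :
    v ∈ fixed φ C ∨ ∃ c ∈ C, c * h ∈ H ∧ c * h ∉ M ∧ v ∈ fixed φ (Fusion.cj C (c * h)) := by
  obtain ⟨u, hu, hw, -⟩ := N.split K v
  obtain ⟨l, hl, l', hl', rfl⟩ := N.exists_add K hh hhM hu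
  by_cases hz : l' = 0
  · left
    subst hz
    rw [← sub_add_cancel v (l + 0), add_zero]
    rw [add_zero] at hw
    exact add_mem (fixed_anti φ N.C_le hw) (N.cen_fix hl)
  right
  obtain ⟨c, hc, hcl⟩ := N.onto l' (fun h' => hz (N.disjoint' K hh hhM hl' h')) l hl
  have hch : c * h ∈ H := mul_mem (N.C_le hc) hh
  refine ⟨c, hc, hch, fun h' => hhM ?_, ?_⟩
  · simpa using mul_mem (inv_mem (hCM hc)) h'
  have h1 : φ c l' ∈ cen φ (Fusion.cj C (c * h)) := by
    rw [← cj_cj]; exact act_mem_cen φ c hl'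
  rw [show φ c l' = l + l' by rw [← hcl, sub_add_cancel]] at h1
  rw [← sub_add_cancel v (l + l')]
  exact add_mem (fixed_anti φ ((cj_mono N.C_le _).trans (cj_eq_self_of_mem hch).le) hw) (N.cen_cj_fixed h1)

end NatH

variable [Finite X]

omit [Finite X] hp [Finite P] in
theorem Mem.exists_cen_ne {B : Subgroup P} (K : Ctx φ p M) (h : Mem φ p B) : ∃ v ∈ cen φ B, v ≠ 0 := by
  by_contra hcon
  push Not at hcon
  refine h.ne (eq_bot_iff.2 fun b hb => Subgroup.mem_bot.2 (K.faithful b fun v => sub_eq_zero.1 ?_))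
  exact hcon _ (sub_mem_cen φ hb v)

namespace Frame

variable {T : Subgroup P} {R : Set (Subgroup P)} (F : Frame φ p M T R) (K : Ctx φ p M)
include F K

theorem exists_natH' {B : Subgroup P} (hB : Cls φ p M R B) :
    ∃ H t, H ≤ stab R ∧ NatH φ M B H t := by
  obtain ⟨n, hn, hnM⟩ := F.out
  exact F.exists_natH K hB.mem hB.not_mem hB.le_M hB.le_stab le_rfl hn hnM

/-- Centres meet the fixed points of members of other classes trivially. -/
theorem cen_inf_fixed {B B' : Subgroup P} (hB : Mem φ p B) (hBN : B ≤ stab R) (hBR : B ∉ R)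
    (hB' : Mem φ p B') (hB'N : B' ≤ stab R) (hB'R : B' ∉ R) {a b : P} (ha : a ∈ stab R) (hb : b ∈ stab R)
    (h1 : B ≤ cj M a) (h2 : B' ≤ cj M b) (hab : a⁻¹ * b ∉ M) {v : X} (hv : v ∈ cen φ B)
    (hv' : v ∈ fixed φ B') : v = 0 := by
  suffices ∀ {B B' : Subgroup P}, Cls φ p M R B → Mem φ p B' → B' ≤ stab R → B' ∉ R → ∀ g ∈ stab R,
      g ∉ M → B' ≤ cj M g → ∀ v ∈ cen φ B, v ∈ fixed φ B' → v = 0 by
    have hbR : ∀ {D : Subgroup P}, D ≤ stab R → Fusion.cj D a⁻¹ ≤ stab R := fun {D} hD =>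
      (cj_mono hD _).trans (cj_eq_self_of_mem (inv_mem ha)).le
    have hnR : ∀ {D : Subgroup P}, D ∉ R → Fusion.cj D a⁻¹ ∉ R := fun {D} hD h => hD (by
      have := cj_mem_of_stab ha h
      rwa [cj_inv_cj] at this)
    have h3 := this ⟨hB.cj a⁻¹, hbR hBN, hnR hBR, by rw [cj_le_iff, inv_inv]; exact h1⟩ (hB'.cj a⁻¹)
      (hbR hB'N) (hnR hB'R) _ (mul_mem (inv_mem ha) hb) hab (by rw [← cj_cj]; exact cj_mono h2 _)
      _ (act_mem_cen φ a⁻¹ hv) (act_mem_fixed φ a⁻¹ hv')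
    have := congrArg (φ a) h3
    rwa [act_self_inv, map_zero] at this
  intro B B' hB hB' hB'N hB'R g hg hgM hle v hv hv'
  obtain ⟨b', hb', hb'M⟩ := SetLike.not_le_iff_exists.1
    (fun h : B' ≤ M => hgM (F.exit₀ K hB' hB'N hB'R h hg hle))
  obtain ⟨y, hy, hyM⟩ := SetLike.not_le_iff_exists.1
    (F.not_le_M K hB.mem hB.le_stab hB.not_mem hB.le_M (hB'N hb') hb'M)
  obtain ⟨H, t, hH, N⟩ := F.exists_natH K hB.mem hB.not_mem hB.le_M (le_sup_left : B ≤ B ⊔ Fusion.cj B b')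
    (sup_le hB.le_stab ((cj_mono hB.le_stab b').trans (cj_eq_self_of_mem (hB'N hb')).le))
    (Subgroup.mem_sup_right hy) hyM
  have hvb : v ∈ fixed φ (Fusion.cj B b') := by
    have := act_mem_fixed φ b' (hB.mem.cen_le_fixed K.exp K.faithful hv)
    rwa [hv' b' hb'] at this
  have hle' : B ⊔ Fusion.cj B b' ≤ PGV.pstab φ {v} := sup_le
    (fun c hc w hw => Set.mem_singleton_iff.1 hw ▸ hB.mem.cen_le_fixed K.exp K.faithful hv c hc)
    (fun c hc w hw => Set.mem_singleton_iff.1 hw ▸ hvb c hc)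
  exact N.neg_fixed K (N.cen_neg hv) fun h hh => hle' (hH hh) v rfl

section Base

variable {C H : Subgroup P} {t : P} (hC : Cls φ p M R C) (hH : H ≤ stab R) (N : NatH φ M C H t) {h₀ : P}
  (hh₀ : h₀ ∈ H) (hh₀M : h₀ ∉ M)
include hC hH N hh₀ hh₀M

theorem cls_cj {g : P} (hg : g ∈ H) :
    Mem φ p (Fusion.cj C g) ∧ Fusion.cj C g ≤ stab R ∧ Fusion.cj C g ∉ R ∧ Fusion.cj C g ≤ Fusion.cj M g :=
  ⟨hC.mem.cj g, (cj_mono hC.le_stab g).trans (cj_eq_self_of_mem (hH hg)).le, fun h => hC.not_mem (by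
    have := cj_mem_of_stab (inv_mem (hH hg)) h
    rwa [cj_cj_inv] at this), cj_mono hC.le_M g⟩

/-- The conjugates of `M` seen in the stabilizer are `M` and the translates of one of them by `C`. -/
theorem class_cases {g : P} (hg : g ∈ stab R) : g ∈ M ∨ ∃ c ∈ C, (c * h₀)⁻¹ * g ∈ M := by
  by_cases hgM : g ∈ M
  · exact Or.inl hgM
  right
  have hB' : Mem φ p (Fusion.cj C g) := hC.mem.cj g
  have hB'N : Fusion.cj C g ≤ stab R := (cj_mono hC.le_stab g).trans (cj_eq_self_of_mem hg).le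
  have hB'R : Fusion.cj C g ∉ R := fun h => hC.not_mem (by
    have := cj_mem_of_stab (inv_mem hg) h
    rwa [cj_cj_inv] at this)
  obtain ⟨v, hv, hv0⟩ := hB'.exists_cen_ne K
  rcases N.exists_line K hh₀ hh₀M hC.le_M v with h | ⟨c, hc, hch, hchM, h⟩
  · exact absurd (F.cen_inf_fixed K hB' hB'N hB'R hC.mem hC.le_stab hC.not_mem hg (one_mem _)
      (cj_mono hC.le_M g) (by rw [cj_one]; exact hC.le_M) (by simpa using hgM) hv h) hv0
  · refine ⟨c, hc, ?_⟩
    by_contra hcon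
    obtain ⟨a1, a2, a3, a4⟩ := F.cls_cj K hC hH N hh₀ hh₀M hch
    exact hv0 (F.cen_inf_fixed K hB' hB'N hB'R a1 a2 a3 hg (hH hch) (cj_mono hC.le_M g) a4
      (fun h' => hcon (by simpa [mul_assoc] using inv_mem h')) hv h)

theorem cen_le_fixed' {B : Subgroup P} (hB : Cls φ p M R B) : cen φ B ≤ fixed φ C := by
  intro v hv
  rcases N.exists_line K hh₀ hh₀M hC.le_M v with h | ⟨c, hc, hch, hchM, h⟩
  · exact h
  · obtain ⟨a1, a2, a3, a4⟩ := F.cls_cj K hC hH N hh₀ hh₀M hch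
    rw [F.cen_inf_fixed K hB.mem hB.le_stab hB.not_mem a1 a2 a3 (one_mem _) (hH hch)
      (by rw [cj_one]; exact hB.le_M) a4 (by simpa using hchM) hv h]
    exact zero_mem _

theorem cen_inf_fixedH {B : Subgroup P} (hB : Cls φ p M R B) {v : X} (hv : v ∈ cen φ B)
    (hv' : v ∈ fixed φ H) : v = 0 := by
  obtain ⟨a1, a2, a3, a4⟩ := F.cls_cj K hC hH N hh₀ hh₀M hh₀
  exact F.cen_inf_fixed K hB.mem hB.le_stab hB.not_mem a1 a2 a3 (one_mem _) (hH hh₀)
    (by rw [cj_one]; exact hB.le_M) a4 (by simpa using hh₀M) hv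
    (fixed_anti φ ((cj_mono N.C_le _).trans (cj_eq_self_of_mem hh₀).le) hv')

end Base

theorem commute {B C : Subgroup P} (hB : Cls φ p M R B) (hC : Cls φ p M R C) :
    ∀ b ∈ B, ∀ c ∈ C, Commute b c := by
  intro b hb c hc
  obtain ⟨H, t, hH, N⟩ := F.exists_natH' K hC
  obtain ⟨H', t', hH', N'⟩ := F.exists_natH' K hB
  obtain ⟨h, hh, hhM⟩ := N.exH
  obtain ⟨h', hh', hhM'⟩ := N'.exH
  have h1 : ∀ v, φ c (φ b v - v) = φ b v - v := fun v =>
    F.cen_le_fixed' K hC hH N hh hhM hB (sub_mem_cen φ hb v) c hc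
  have h2 : ∀ v, φ b (φ c v - v) = φ c v - v := fun v =>
    F.cen_le_fixed' K hB hH' N' hh' hhM' hC (sub_mem_cen φ hc v) b hb
  refine commutatorElement_eq_one_iff_commute.1 (K.faithful _ fun v => ?_)
  have e : ∀ w, φ (b * c) w = φ (c * b) w := fun w => by
    have a1 := h1 w
    have a2 := h2 w
    rw [map_sub] at a1 a2
    rw [act_mul, act_mul]
    calc φ b (φ c w) = (φ b (φ c w) - φ b w) + φ b w := by abel
      _ = (φ c w - w) + φ b w := by rw [a2]
      _ = φ c w + (φ b w - w) := by abel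
      _ = φ c w + (φ c (φ b w) - φ c w) := by rw [a1]
      _ = _ := by abel
  rw [commutatorElement_def, mul_assoc (b * c), ← mul_inv_rev, act_mul, e, ← act_mul, mul_inv_cancel, act_one]

theorem card_le {B C : Subgroup P} (hB : Cls φ p M R B) (hC : Cls φ p M R C) : Nat.card B ≤ Nat.card C := by
  obtain ⟨H, t, hH, N⟩ := F.exists_natH' K hC
  obtain ⟨H', t', hH', N'⟩ := F.exists_natH' K hB
  obtain ⟨h, hh, hhM⟩ := N.exH
  rw [← N'.card_cen, ← N.card_cen]
  have e1 := PGV.card_inf_mul_sup (fixed φ H) (cen φ B)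
  have e2 := PGV.card_inf_mul_sup (fixed φ H) (cen φ C)
  have i1 : fixed φ H ⊓ cen φ B = ⊥ := eq_bot_iff.2 fun v hv => F.cen_inf_fixedH K hC hH N hh hhM hB hv.2 hv.1
  have i2 : fixed φ H ⊓ cen φ C = ⊥ := eq_bot_iff.2 fun v hv => N.neg_fixed K (N.cen_neg hv.2) hv.1
  have i3 : fixed φ H ⊔ cen φ B ≤ fixed φ H ⊔ cen φ C := sup_le le_sup_left fun v hv => by
    obtain ⟨l, hl, hw⟩ := N.fixed_split K (F.cen_le_fixed' K hC hH N hh hhM hB hv)
    rw [← sub_add_cancel v l]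
    exact add_mem (AddSubgroup.mem_sup_left hw) (AddSubgroup.mem_sup_right hl)
  rw [i1, AddSubgroup.card_bot, mul_one] at e1
  rw [i2, AddSubgroup.card_bot, mul_one] at e2
  refine Nat.le_of_mul_le_mul_left ?_ (Nat.card_pos (α := fixed φ H))
  rw [e1, e2]
  exact AddSubgroup.card_le_of_le i3

/-- An element of a class member lies in no other conjugate of `M`. -/
theorem tc {B : Subgroup P} (hB : Cls φ p M R B) {b : P} (hb : b ∈ B) {g : P} (hg : g ∈ stab R) (hgM : g ∉ M)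
    (h : b ∈ Fusion.cj M g) : b = 1 := by
  obtain ⟨H, t, hH, N⟩ := F.exists_natH' K hB
  obtain ⟨h₀, hh, hhM⟩ := N.exH
  obtain ⟨c, hc, hcg⟩ := (F.class_cases K hB hH N hh hhM hg).resolve_left hgM
  have hch : c * h₀ ∈ H := mul_mem (N.C_le hc) hh
  refine N.tc b hb (c * h₀) hch (fun h' => hhM (by simpa using mul_mem (inv_mem (hB.le_M hc)) h')) ?_
  rw [show g = c * h₀ * ((c * h₀)⁻¹ * g) by group, ← cj_cj, cj_eq_self_of_mem hcg] at h
  exact h

end Frame

/-- The kernel of the action on the conjugates of `M` seen in the stabilizer. -/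
def kerN (M : Subgroup P) (R : Set (Subgroup P)) : Subgroup P where
  carrier := {n | n ∈ stab R ∧ ∀ g ∈ stab R, g⁻¹ * n * g ∈ M}
  one_mem' := ⟨one_mem _, fun g _ => by simp⟩
  mul_mem' := fun {a b} ha hb => ⟨mul_mem ha.1 hb.1, fun g hg => by
    simpa [mul_assoc] using mul_mem (ha.2 g hg) (hb.2 g hg)⟩
  inv_mem' := fun {a} ha => ⟨inv_mem ha.1, fun g hg => by
    simpa [mul_assoc] using inv_mem (ha.2 g hg)⟩

omit [Finite P] hp [Finite X] in
theorem kerN_le_M {R : Set (Subgroup P)} : kerN M R ≤ M := fun n hn => by simpa using hn.2 1 (one_mem _)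

omit hp [Finite X] in
theorem stab_le_normalizer_kerN {R : Set (Subgroup P)} :
    stab R ≤ Subgroup.normalizer (kerN M R : Set P) := fun g hg => mem_normalizer_of_cj_le (by
  rintro _ ⟨n, hn, rfl⟩
  refine ⟨mul_mem (mul_mem hg hn.1) (inv_mem hg), fun x hx => ?_⟩
  show x⁻¹ * (g * n * g⁻¹) * x ∈ M
  have := hn.2 (g⁻¹ * x) (mul_mem (inv_mem hg) hx)
  simpa [mul_assoc] using this)

namespace Frame

variable {T : Subgroup P} {R : Set (Subgroup P)} (F : Frame φ p M T R) (K : Ctx φ p M)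
include F

omit [Finite X] in
/-- The members of the frame fix all the conjugates of `M`. -/
theorem le_kerN {D : Subgroup P} (hD : D ∈ R) : D ≤ T ⊓ kerN M R := fun d hd =>
  ⟨(F.sub hD).2 hd, F.le_stab D hD hd, fun _ hg => mem_cj.1 (F.le_cj_M hg hD hd)⟩

omit [Finite X] in
theorem normalizes_Q₀ : T ⊓ stab R ≤ Subgroup.normalizer ((T ⊓ kerN M R : Subgroup P) : Set P) :=
  fun _ hx => mem_normalizer_iff_cj.2 (by
    rw [cj_inf, cj_eq_self_of_mem hx.1, cj_eq_self (stab_le_normalizer_kerN hx.2)])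

include K

/-- A natural `SL₂` for `C` normalizing `T ∩ K₀`. -/
theorem exists_natH₀ {C : Subgroup P} (hC : Cls φ p M R C) (hCT : C ≤ T) :
    ∃ H t, H ≤ stab R ⊓ Subgroup.normalizer ((T ⊓ kerN M R : Subgroup P) : Set P) ∧ NatH φ M C H t := by
  obtain ⟨n, hn, hnM⟩ := F.out
  have hsyl : SylIn p (T ⊓ kerN M R) (kerN M R) := by
    have := F.sylN.inf_normal (N := kerN M R) (fun _ h => h.1) stab_le_normalizer_kerN
    rwa [inf_assoc, inf_eq_right.2 (show kerN M R ≤ stab R from fun _ h => h.1)] at this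
  obtain ⟨k, hk, hkn⟩ := frattini_conj hsyl stab_le_normalizer_kerN hn
  exact F.exists_natH K hC.mem hC.not_mem hC.le_M
    (le_inf hC.le_stab ((le_inf hCT hC.le_stab).trans F.normalizes_Q₀)) inf_le_left
    (y₀ := k * n) ⟨mul_mem hk.1 hn, hkn⟩ fun h => hnM (by simpa using mul_mem (inv_mem (kerN_le_M hk)) h)

/-- `T ∩ K₀` fixes the plane. -/
theorem neg_le_fixed {C H : Subgroup P} {t : P} (hC : Cls φ p M R C) (hCT : C ≤ T)
    (hH : H ≤ Subgroup.normalizer ((T ⊓ kerN M R : Subgroup P) : Set P)) (N : NatH φ M C H t) :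
    neg φ t ≤ fixed φ (T ⊓ kerN M R) := by
  set Q₀ := T ⊓ kerN M R
  have hinv : ∀ g ∈ H, ∀ v ∈ fixed φ Q₀, φ g v ∈ fixed φ Q₀ := fun g hg v hv => by
    have := act_mem_fixed φ g hv
    rwa [cj_eq_self (hH hg)] at this
  obtain ⟨h, hh, hhM⟩ := N.exH
  obtain ⟨z, hz, hzm⟩ := K.moved T F.syl F.le_M h hhM
  have hzQ : z ∈ fixed φ Q₀ := fixed_anti φ inf_le_left hz
  obtain ⟨u, hu, hw, huZ⟩ := N.split K z
  have huQ : u ∈ fixed φ Q₀ := huZ _ hzQ (hinv t N.t_mem z hzQ)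
  have huC : u ∈ fixed φ C := by
    have := sub_mem (fixed_anti φ hCT hz) (fixed_anti φ N.C_le hw)
    rwa [sub_sub_cancel] at this
  have hu0 : u ≠ 0 := fun e => hzm (by
    rw [e, sub_zero] at hw
    exact hw h hh)
  have hucen : u ∈ cen φ C := N.fix_cen u huC hu
  have hl' : φ h u ∈ cen φ (Fusion.cj C h) := act_mem_cen φ h hucen
  have hl'C : φ h u ∉ fixed φ C := fun e => hu0 (by
    have := congrArg (φ h⁻¹) (N.disjoint' K hh hhM hl' e)
    rwa [act_inv_self, map_zero] at this)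
  have hcenQ : cen φ C ≤ fixed φ Q₀ := fun m hm => by
    obtain ⟨c, hc, rfl⟩ := N.onto _ hl'C m hm
    exact sub_mem (hinv c (N.C_le hc) _ (hinv h hh u huQ)) (hinv h hh u huQ)
  intro v hv
  obtain ⟨l, hl, l', hl'', rfl⟩ := N.exists_add K hh hhM hv
  refine add_mem (hcenQ hl) ?_
  have h1 := act_mem_cen φ h⁻¹ hl''
  rw [cj_cj_inv] at h1
  have := hinv h hh _ (hcenQ h1)
  rwa [act_self_inv] at this

/-- The elements of two class members in `T` correspond modulo `T ∩ K₀`. -/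
theorem exists_match {B C H : Subgroup P} {t : P} (hB : Cls φ p M R B) (hBT : B ≤ T) (hC : Cls φ p M R C)
    (hCT : C ≤ T) (hH : H ≤ stab R) (N : NatH φ M C H t) {b : P} (hb : b ∈ B) :
    ∃ c ∈ C, c⁻¹ * b ∈ T ⊓ kerN M R := by
  obtain ⟨h, hh, hhM⟩ := N.exH
  have hbh : b * h ∉ M := fun e => hhM (by simpa using mul_mem (inv_mem (hB.le_M hb)) e)
  obtain ⟨c, hc, hcb⟩ := (F.class_cases K hC hH N hh hhM (mul_mem (hB.le_stab hb) (hH hh))).resolve_left hbh
  refine ⟨c, hc, mul_mem (T.inv_mem (hCT hc)) (hBT hb), mul_mem ((stab R).inv_mem (hC.le_stab hc)) (hB.le_stab hb),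
    fun g hg => ?_⟩
  have hy : c⁻¹ * b ∈ M := mul_mem (M.inv_mem (hC.le_M hc)) (hB.le_M hb)
  rcases F.class_cases K hC hH N hh hhM hg with hgM | ⟨d, hd, hdg⟩
  · exact mul_mem (mul_mem (M.inv_mem hgM) hy) hgM
  · have hcd : Commute (c⁻¹ * b) d :=
      ((hC.mem.comm c hc d hd).inv_left).mul_left (F.commute K hB hC b hb d hd)
    have e1 : h⁻¹ * (c⁻¹ * b) * h ∈ M := by
      simpa [mul_assoc] using hcb
    have e2 : g⁻¹ * (c⁻¹ * b) * g = ((d * h)⁻¹ * g)⁻¹ * (h⁻¹ * (d⁻¹ * ((c⁻¹ * b) * d)) * h) * ((d * h)⁻¹ * g) := by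
      group
    rw [e2, hcd.eq, inv_mul_cancel_left]
    exact mul_mem (mul_mem (M.inv_mem hdg) e1) hdg

theorem exists_match' {B C H : Subgroup P} {t : P} (hB : Cls φ p M R B) (hBT : B ≤ T) (hC : Cls φ p M R C)
    (hCT : C ≤ T) (hH : H ≤ stab R) (N : NatH φ M C H t) {c : P} (hc : c ∈ C) :
    ∃ b ∈ B, c⁻¹ * b ∈ T ⊓ kerN M R := by
  choose f hf hf' using fun b : B => F.exists_match K hB hBT hC hCT hH N b.2
  obtain ⟨h, hh, hhM⟩ := N.exH
  let f' : B → C := fun b => ⟨f b, hf b⟩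
  have hinj : Function.Injective f' := fun a b e => by
    have e' : f a = f b := congrArg Subtype.val e
    have h1 := mul_mem (inv_mem (hf' a)) (hf' b)
    rw [e', show ((f b)⁻¹ * (a : P))⁻¹ * ((f b)⁻¹ * b) = (a : P)⁻¹ * b by group] at h1
    refine Subtype.ext (inv_mul_eq_one.1 (F.tc K hB (mul_mem (inv_mem a.2) b.2) (hH hh) hhM ?_))
    exact mem_cj.2 (h1.2.2 h (hH hh))
  obtain ⟨b, hb⟩ := ((Nat.bijective_iff_injective_and_card f').2
    ⟨hinj, le_antisymm (F.card_le K hB hC) (F.card_le K hC hB)⟩).2 ⟨c, hc⟩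
  refine ⟨b, b.2, ?_⟩
  have e : f b = c := congrArg Subtype.val hb
  exact e ▸ hf' b

/-- Class members in `T` have the same centre. -/
theorem cen_eq {B C : Subgroup P} (hB : Cls φ p M R B) (hBT : B ≤ T) (hC : Cls φ p M R C) (hCT : C ≤ T) :
    cen φ B = cen φ C := by
  suffices ∀ {B C : Subgroup P}, Cls φ p M R B → B ≤ T → Cls φ p M R C → C ≤ T → cen φ C ≤ cen φ B from
    le_antisymm (this hC hCT hB hBT) (this hB hBT hC hCT)
  intro B C hB hBT hC hCT m hm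
  obtain ⟨H, t, hH, N⟩ := F.exists_natH₀ K hC hCT
  obtain ⟨h, hh, hhM⟩ := N.exH
  obtain ⟨v, hv, hv0⟩ := (hC.mem.cj h).exists_cen_ne K
  have hvC : v ∉ fixed φ C := fun e => hv0 (N.disjoint' K hh hhM hv e)
  obtain ⟨c, hc, rfl⟩ := N.onto v hvC m hm
  obtain ⟨b, hb, hcb⟩ := F.exists_match' K hB hBT hC hCT (hH.trans inf_le_left) N hc
  have h1 := F.neg_le_fixed K hC hCT (hH.trans inf_le_right) N (N.cen_cj_neg hh hv) _ hcb
  have h2 : φ b v = φ c v := by
    have := congrArg (φ c) h1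
    rwa [← act_mul, mul_inv_cancel_left] at this
  rw [← h2]
  exact sub_mem_cen φ hb v

end Frame

end Cfsg.Agent.OffProd
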