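import Cfsg.Agent.Lib.PushUp.BestOffenderNatural
import Cfsg.Agent.Lib.Lead.PGV.Replace
import Cfsg.Agent.Lib.Fusion.Basic
import Cfsg.Prelude.Def_PLocal

/-!
# Offenders of a group with a unique maximal subgroup over a Sylow subgroup

The members are the minimal subgroups `B` with `|X| ≤ |B| |C_X(B)|`; they act quadratically.
-/

set_option autoImplicit false

namespace Cfsg.Agent.OffProd

open Cfsg Cfsg.Agent Cfsg.Agent.Fusion Cfsg.Agent.BestOff

universe u v

variable {P : Type u} [Group P] {X : Type v} [AddCommGroup X]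

/-! ### Fixed vectors and commutators -/

variable (φ : P →* AddMonoid.End X) {p : ℕ}

/-- `[X, B]`. -/
def cen (B : Subgroup P) : AddSubgroup X :=
  AddSubgroup.closure {w | ∃ v, ∃ b ∈ B, φ b v - v = w}

theorem sub_mem_cen {B : Subgroup P} {b : P} (hb : b ∈ B) (v : X) : φ b v - v ∈ cen φ B :=
  AddSubgroup.subset_closure ⟨v, b, hb, rfl⟩

theorem act_mem_fixed {B : Subgroup P} (g : P) {v : X} (hv : v ∈ fixed φ B) :
    φ g v ∈ fixed φ (cj B g) := by
  intro b hb
  rw [← act_mul, show b * g = g * (g⁻¹ * b * g) by group, act_mul, hv _ (mem_cj.1 hb)]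

theorem act_mem_cen {B : Subgroup P} (g : P) {v : X} (hv : v ∈ cen φ B) :
    φ g v ∈ cen φ (cj B g) := by
  have : cen φ B ≤ (cen φ (cj B g)).comap (φ g : X →+ X) := (AddSubgroup.closure_le _).2 (by
    rintro _ ⟨w, b, hb, rfl⟩
    show φ g (φ b w - w) ∈ cen φ (cj B g)
    have e : φ g (φ b w - w) = φ (g * b * g⁻¹) (φ g w) - φ g w := by
      rw [map_sub, ← act_mul, ← act_mul]; congr 2; group
    rw [e]
    exact sub_mem_cen φ (conj_mem_cj hb) _)
  exact this hv

theorem fixed_anti {B B' : Subgroup P} (h : B ≤ B') : fixed φ B' ≤ fixed φ B :=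
  fun _ hv b hb => hv b (h hb)

theorem cen_mono {B B' : Subgroup P} (h : B ≤ B') : cen φ B ≤ cen φ B' :=
  AddSubgroup.closure_mono fun _ ⟨v, b, hb, e⟩ => ⟨v, b, h hb, e⟩

/-- `|B| |C_X(B)|`. -/
noncomputable def off (B : Subgroup P) : ℕ := Nat.card B * Nat.card (fixed φ B)

theorem off_eq_meas (B : Subgroup P) : off φ B = PGV.meas φ B := rfl

theorem off_bot : off φ (⊥ : Subgroup P) = Nat.card X := by rw [off_eq_meas, PGV.meas_bot]

theorem card_fixed_cj (B : Subgroup P) (g : P) : Nat.card (fixed φ (cj B g)) = Nat.card (fixed φ B) :=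
  (Nat.card_congr
    { toFun := fun v : fixed φ B => (⟨φ g v, act_mem_fixed φ g v.2⟩ : fixed φ (cj B g))
      invFun := fun v => ⟨φ g⁻¹ v, by
        have := act_mem_fixed φ g⁻¹ v.2
        rwa [cj_cj_inv] at this⟩
      left_inv := fun v => Subtype.ext (act_inv_self φ g v)
      right_inv := fun v => Subtype.ext (act_self_inv φ g v) }).symm

theorem off_cj (B : Subgroup P) (g : P) : off φ (cj B g) = off φ B := by
  rw [off, off, card_cj, card_fixed_cj]

variable (p) in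
/-- A minimal offender. -/
structure Mem (B : Subgroup P) : Prop where
  ne : B ≠ ⊥
  isP : IsPGroup p B
  comm : ∀ a ∈ B, ∀ b ∈ B, Commute a b
  le_off : Nat.card X ≤ off φ B
  min : ∀ B₀ ≤ B, B₀ ≠ ⊥ → B₀ ≠ B → off φ B₀ < Nat.card X

variable (p) in
/-- The members inside `T`. -/
def mems (T : Subgroup P) : Set (Subgroup P) := {B | Mem φ p B ∧ B ≤ T}

/-- The conjugate of a set of subgroups. -/
def cjS (g : P) (R : Set (Subgroup P)) : Set (Subgroup P) := (fun B => cj B g) '' R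

theorem cjS_one (R : Set (Subgroup P)) : cjS 1 R = R := by simp [cjS, cj_one]

theorem cjS_cjS (R : Set (Subgroup P)) (a b : P) : cjS b (cjS a R) = cjS (b * a) R := by
  simp only [cjS, Set.image_image, cj_cj]

theorem ncard_cjS (R : Set (Subgroup P)) (g : P) : (cjS g R).ncard = R.ncard :=
  Set.ncard_image_of_injective R fun A B h => by
    have := congrArg (fun C => cj C g⁻¹) h
    simpa only [cj_cj_inv] using this

theorem mem_cjS {R : Set (Subgroup P)} {g : P} {B : Subgroup P} : B ∈ cjS g R ↔ cj B g⁻¹ ∈ R :=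
  ⟨fun ⟨A, hA, e⟩ => by subst e; rwa [cj_cj_inv], fun h => ⟨_, h, cj_inv_cj B g⟩⟩

/-- The stabilizer of a set of subgroups. -/
def stab (R : Set (Subgroup P)) : Subgroup P where
  carrier := {g | cjS g R = R}
  one_mem' := cjS_one R
  mul_mem' := fun {a b} ha hb => by
    show cjS (a * b) R = R
    rw [← cjS_cjS, show cjS b R = R from hb]; exact ha
  inv_mem' := fun {a} ha => by
    show cjS a⁻¹ R = R
    conv_lhs => rw [← show cjS a R = R from ha]
    rw [cjS_cjS, inv_mul_cancel, cjS_one]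

theorem mem_stab {R : Set (Subgroup P)} {g : P} : g ∈ stab R ↔ cjS g R = R := Iff.rfl

theorem cj_mem_of_stab {R : Set (Subgroup P)} {g : P} (hg : g ∈ stab R) {B : Subgroup P} (hB : B ∈ R) :
    cj B g ∈ R := (mem_stab.1 hg) ▸ ⟨B, hB, rfl⟩

theorem mem_stab_of_maps [Finite P] {R : Set (Subgroup P)} {g : P} (h : ∀ B ∈ R, cj B g ∈ R) :
    g ∈ stab R :=
  mem_stab.2 (Set.eq_of_subset_of_ncard_le (by rintro _ ⟨B, hB, rfl⟩; exact h B hB)
    (ncard_cjS R g).ge (Set.toFinite _))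

theorem le_normalizer_sSup {R : Set (Subgroup P)} :
    stab R ≤ Subgroup.normalizer ((sSup R : Subgroup P) : Set P) := by
  have key : ∀ g ∈ stab R, cj (sSup R) g ≤ sSup R := fun g hg => by
    rw [cj_le_iff]
    exact sSup_le fun B hB => cj_le_iff.1 (le_sSup (cj_mem_of_stab hg hB))
  intro g hg
  refine mem_normalizer_iff_cj.2 (le_antisymm (key g hg) ?_)
  have := cj_mono (key g⁻¹ (inv_mem hg)) g
  rwa [cj_inv_cj] at this

theorem mems_cj (T : Subgroup P) (g : P) (h : ∀ B, Mem φ p B → Mem φ p (cj B g))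
    (h' : ∀ B, Mem φ p B → Mem φ p (cj B g⁻¹)) : mems φ p (cj T g) = cjS g (mems φ p T) := by
  ext B
  rw [mem_cjS]
  constructor
  · exact fun hB => ⟨h' B hB.1, by rw [cj_le_iff, inv_inv]; exact hB.2⟩
  · exact fun hB => ⟨by simpa only [cj_inv_cj] using h _ hB.1,
      by simpa only [cj_inv_cj] using cj_mono hB.2 g⟩

variable {φ}

theorem Mem.cj {B : Subgroup P} (h : Mem φ p B) (g : P) : Mem φ p (cj B g) where
  ne := fun e => h.ne (by rw [← cj_cj_inv B g, e, cj_bot])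
  isP := isPGroup_cj h.isP g
  comm := fun a ha b hb => by
    have := (h.comm _ (mem_cj.1 ha) _ (mem_cj.1 hb)).map (MulAut.conj g).toMonoidHom
    simpa [mul_assoc] using this
  le_off := (off_cj φ B g).symm ▸ h.le_off
  min := fun B₀ hB₀ hne hne' => by
    rw [← cj_inv_cj B₀ g, off_cj]
    refine h.min _ (by rw [cj_le_iff, inv_inv]; exact hB₀) (fun e => hne ?_) fun e => hne' ?_
    · rw [← cj_inv_cj B₀ g, e, cj_bot]
    · rw [← cj_inv_cj B₀ g, e]

theorem mems_cj' (φ : P →* AddMonoid.End X) (T : Subgroup P) (g : P) :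
    mems φ p (Fusion.cj T g) = cjS g (mems φ p T) :=
  mems_cj φ T g (fun _ h => h.cj g) fun _ h => h.cj g⁻¹

theorem mem_stab_mems_of_normalizer {T : Subgroup P} {g : P}
    (hg : g ∈ Subgroup.normalizer (T : Set P)) : g ∈ stab (mems φ p T) := by
  rw [mem_stab, ← mems_cj', cj_eq_self hg]

theorem le_stab_mems (T : Subgroup P) : T ≤ stab (mems φ p T) :=
  fun _ hg => mem_stab_mems_of_normalizer (Subgroup.le_normalizer hg)

theorem isPGroup_sSup {T : Subgroup P} {R : Set (Subgroup P)} (hT : IsPGroup p T) (h : ∀ B ∈ R, B ≤ T) :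
    IsPGroup p (sSup R : Subgroup P) := hT.to_le (sSup_le h)

section Finite

variable [Finite P] [Finite X] [hp : Fact p.Prime]

theorem exists_mem_le {B : Subgroup P} (hne : B ≠ ⊥) (hB : IsPGroup p B)
    (hc : ∀ a ∈ B, ∀ b ∈ B, Commute a b) (hoff : Nat.card X ≤ off φ B) : ∃ D ≤ B, Mem φ p D := by
  classical
  set s : Set (Subgroup P) := {D | D ≤ B ∧ D ≠ ⊥ ∧ Nat.card X ≤ off φ D}
  obtain ⟨D, hD, hmin⟩ := Set.exists_min_image s (fun D => Nat.card D) (Set.toFinite s) ⟨B, le_rfl, hne, hoff⟩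
  refine ⟨D, hD.1, ⟨hD.2.1, hB.to_le hD.1, fun a ha b hb => hc a (hD.1 ha) b (hD.1 hb), hD.2.2,
    fun D₀ h0 hne0 hne' => ?_⟩⟩
  by_contra hcon
  exact hne' (Subgroup.eq_of_le_of_card_ge h0 (hmin D₀ ⟨h0.trans hD.1, hne0, not_lt.1 hcon⟩))

variable (hexp : ∀ v : X, p • v = 0) (hfaith : ∀ g, (∀ v, φ g v = v) → g = 1)
include hexp hfaith

/-- Members act quadratically. -/
theorem Mem.quad {B : Subgroup P} (h : Mem φ p B) : ∀ b ∈ B, ∀ v, φ b v - v ∈ fixed φ B := by
  classical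
  have hbest : PGV.IsBest φ B := fun B₀ h0 => by
    rw [← off_eq_meas, ← off_eq_meas]
    by_cases h1 : B₀ = ⊥
    · subst h1; rw [off_bot]; exact h.le_off
    by_cases h2 : B₀ = B
    · rw [h2]
    exact (h.min B₀ h0 h1 h2).le.trans h.le_off
  obtain ⟨hm, hW⟩ := hbest.replacement φ h.comm
  suffices hq : PGV.quadPart φ B = B by
    intro b hb v c hc
    exact (hq.ge hc).2 _ (AddSubgroup.subset_closure ⟨v, trivial, b, hb, rfl⟩)
  by_contra hne
  have hbot : PGV.quadPart φ B = ⊥ := by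
    by_contra hb
    have := h.min (PGV.quadPart φ B) inf_le_left hb hne
    rw [off_eq_meas, hm, ← off_eq_meas] at this
    exact absurd h.le_off (not_le.2 this)
  -- commutators with a unipotent abelian group do not cover the module
  have htop : PGV.commSpan φ B Set.univ ⊔ PGV.fixSet φ (B : Set P) = ⊤ := by
    rw [← hW, hbot, eq_top_iff]
    intro v _ s hs
    rw [Subgroup.mem_bot.1 hs, map_one]; rfl
  have := Fintype.ofFinite P
  set J := PGV.commSpan φ B Set.univ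
  let s : Finset (AddMonoid.End X) := (Finset.univ.filter fun g : P => g ∈ B).image fun g => φ g - 1
  have hs : ∀ f ∈ s, ∃ a ∈ B, φ a - 1 = f := fun f hf => by
    obtain ⟨a, ha, rfl⟩ := Finset.mem_image.1 hf
    exact ⟨a, (Finset.mem_filter.1 ha).2, rfl⟩
  have hmem : ∀ a ∈ B, ∀ v, φ a v - v ∈ J := fun a ha v =>
    AddSubgroup.subset_closure ⟨v, trivial, a, ha, rfl⟩
  obtain ⟨m, hm'⟩ := IsPGroup.iff_card.1 h.isP
  have hJ0 : J = ⊥ := by
    refine PGV.eq_bot_of_le_iSup_map (k := p ^ m) s J ?_ ?_ ?_ ?_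
    · intro f hf
      obtain ⟨a, ha, rfl⟩ := hs f hf
      rcases subsingleton_or_nontrivial X with hss | hss
      · exact AddMonoidHom.ext fun v => Subsingleton.elim _ _
      haveI := PGV.end_charP (p := p) hexp
      rw [sub_pow_char_pow_of_commute (p := p) (n := m) (Commute.one_right (φ a)), one_pow, ← map_pow]
      have : a ^ p ^ m = 1 := by
        rw [← hm']
        exact congrArg Subtype.val (pow_card_eq_one' (x := (⟨a, ha⟩ : B)))
      rw [this, map_one, sub_self]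
    · intro f hf g hg
      obtain ⟨a, ha, rfl⟩ := hs f hf
      obtain ⟨b, hb, rfl⟩ := hs g hg
      exact ((Commute.map (h.comm a ha b hb) φ).sub_left (Commute.one_left _)).sub_right
        ((Commute.one_right _).sub_left (Commute.one_left _))
    · intro f hf
      obtain ⟨a, ha, rfl⟩ := hs f hf
      rintro _ ⟨w, -, rfl⟩
      exact hmem a ha w
    · refine (AddSubgroup.closure_le _).2 ?_
      rintro _ ⟨v, -, a, ha, rfl⟩
      obtain ⟨x, hx, y, hy, rfl⟩ := AddSubgroup.mem_sup.1 (htop.ge (AddSubgroup.mem_top v))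
      refine (le_iSup₂_of_le (f := fun f _ => J.map (f : X →+ X)) ((φ a - 1 : AddMonoid.End X))
        (Finset.mem_image.2 ⟨a, Finset.mem_filter.2 ⟨Finset.mem_univ _, ha⟩, rfl⟩) le_rfl) ⟨x, hx, ?_⟩
      show φ a x - x = φ a (x + y) - (x + y)
      rw [map_add, hy a ha]; abel
  refine h.ne (eq_bot_iff.2 fun a ha => Subgroup.mem_bot.2 (hfaith a fun v => ?_))
  have := hmem a ha v
  rwa [hJ0, AddSubgroup.mem_bot, sub_eq_zero] at this

theorem Mem.cen_le_fixed {B : Subgroup P} (h : Mem φ p B) : cen φ B ≤ fixed φ B :=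
  (AddSubgroup.closure_le _).2 (by rintro _ ⟨v, b, hb, rfl⟩; exact h.quad hexp hfaith b hb v)

end Finite

/-! ### The setting -/

variable (φ p)

/-- A faithful module for a group with `O_p = 1` whose Sylow subgroup lies in a unique maximal subgroup `M`, where
everything outside `M` moves the fixed vectors of the Sylow subgroup. -/
structure Ctx (M : Subgroup P) : Prop where
  exp : ∀ v : X, p • v = 0
  faithful : ∀ g, (∀ v, φ g v = v) → g = 1
  two : p ≠ 2
  M_ne : M ≠ ⊤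
  exT : ∃ T, SylIn p T ⊤ ∧ T ≤ M ∧ T ≠ ⊥
  core : pCore p P = ⊥
  uniq : ∀ T, SylIn p T ⊤ → T ≤ M → ∀ H, T ≤ H → H ≠ ⊤ → H ≤ M
  moved : ∀ T, SylIn p T ⊤ → T ≤ M → ∀ g, g ∉ M → ∃ z ∈ fixed φ T, φ g z ≠ z

/-- A maximal set `R` of members common to two conjugates of `M`, seen in a Sylow subgroup `T` of `M`. -/
structure Frame (M T : Subgroup P) (R : Set (Subgroup P)) : Prop where
  syl : SylIn p T ⊤
  le_M : T ≤ M
  sub : R ⊆ mems φ p T
  out : ∃ n ∈ stab R, n ∉ M
  sylN : SylIn p (T ⊓ stab R) (stab R)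
  exC : ∃ C ∈ mems φ p T, C ∉ R ∧ C ≤ stab R
  le_stab : ∀ B ∈ R, B ≤ stab R
  max : ∀ T₁ T₂, SylIn p T₁ ⊤ → SylIn p T₂ ⊤ → T₁ ≤ M → ∀ g, g ∉ M → T₂ ≤ cj M g →
    (mems φ p T₁ ∩ mems φ p T₂).ncard ≤ R.ncard

variable {φ p} {M : Subgroup P}
variable [Finite P] [hp : Fact p.Prime]

namespace Ctx

variable (K : Ctx φ p M)
include K

theorem syl_ne {T : Subgroup P} (hT : SylIn p T ⊤) : T ≠ ⊥ := by
  obtain ⟨T₀, h0, -, hne⟩ := K.exT
  obtain ⟨x, -, rfl⟩ := h0.conj_eq hT
  exact fun e => hne (by rw [← cj_cj_inv T₀ x, e, cj_bot])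

theorem eq_bot_of_normal {N : Subgroup P} (hn : Subgroup.normalizer (N : Set P) = ⊤) (hN : IsPGroup p N) :
    N = ⊥ := by
  haveI := Subgroup.normalizer_eq_top_iff.1 hn
  exact le_bot_iff.1 (K.core ▸ le_sSup ⟨inferInstance, hN⟩)

theorem M_self : Subgroup.normalizer (M : Set P) ≤ M := by
  obtain ⟨T, hT, hTM, hne⟩ := K.exT
  refine K.uniq T hT hTM _ (hTM.trans Subgroup.le_normalizer) fun htop => ?_
  refine K.M_ne (top_le_iff.1 fun g _ => ?_)
  obtain ⟨n, hn, hng⟩ := frattini_conj (hT.mono hTM le_top) (H := ⊤) htop.ge (Subgroup.mem_top g)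
  have hNT : Subgroup.normalizer (T : Set P) ≤ M :=
    K.uniq T hT hTM _ Subgroup.le_normalizer fun h => hne (K.eq_bot_of_normal h hT.isPGroup)
  simpa using mul_mem (inv_mem hn) (hNT hng)

theorem mem_of_syl {T : Subgroup P} (hT : SylIn p T ⊤) (h1 : T ≤ M) {g : P} (h2 : T ≤ cj M g) : g ∈ M := by
  have h3 : cj M g ≤ M := K.uniq T hT h1 _ h2 fun e => K.M_ne (by
    rw [← cj_cj_inv M g, e]; exact cj_of_normal _ _)
  exact K.M_self (mem_normalizer_of_cj_le h3)

theorem syl_of_sylIn {T : Subgroup P} (hT : SylIn p T M) : SylIn p T ⊤ := by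
  obtain ⟨T₀, h0, hle, -⟩ := K.exT
  obtain ⟨x, -, rfl⟩ := (h0.mono hle le_top).conj_eq hT
  exact h0.cj' (by rw [Subgroup.normalizer_eq_top]; trivial)

theorem exists_le_cj {T : Subgroup P} (hT : SylIn p T ⊤) : ∃ g, T ≤ cj M g := by
  obtain ⟨T₀, h0, hle, -⟩ := K.exT
  obtain ⟨x, -, rfl⟩ := h0.conj_eq hT
  exact ⟨x, cj_mono hle x⟩

theorem exists_syl_ge {Q : Subgroup P} (hQ : IsPGroup p Q) {g : P} (hQM : Q ≤ cj M g) :
    ∃ T, SylIn p T ⊤ ∧ T ≤ cj M g ∧ Q ≤ T := by
  obtain ⟨T, hT, hQT⟩ := exists_sylIn_ge (isPGroup_cj hQ g⁻¹) (H := M)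
    (by rw [cj_le_iff, inv_inv]; exact hQM)
  refine ⟨cj T g, (K.syl_of_sylIn hT).cj' (by rw [Subgroup.normalizer_eq_top]; trivial), cj_mono hT.le g, ?_⟩
  simpa only [cj_inv_cj] using cj_mono hQT g

theorem sylIn_cj {T : Subgroup P} (hT : SylIn p T ⊤) (g : P) : SylIn p (cj T g) ⊤ :=
  hT.cj' (by rw [Subgroup.normalizer_eq_top]; trivial)

theorem eq_top_of_stab {R : Set (Subgroup P)} {T : Subgroup P} (hT : SylIn p T ⊤) (hTM : T ≤ M)
    (hTR : T ≤ stab R) {n : P} (hn : n ∈ stab R) (hnM : n ∉ M) (hR : ∀ B ∈ R, B ≤ T) :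
    ∀ B ∈ R, B = ⊥ := by
  have htop : stab R = ⊤ := by
    by_contra h
    exact hnM (K.uniq T hT hTM _ hTR h hn)
  have := K.eq_bot_of_normal (top_le_iff.1 (htop.ge.trans le_normalizer_sSup))
    (isPGroup_sSup hT.isPGroup hR)
  exact fun B hB => le_bot_iff.1 (this ▸ le_sSup hB)

end Ctx

end Cfsg.Agent.OffProd
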