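import Cfsg.Agent.Lib.PushUp.OffProd.Classes

/-!
# All members of a Sylow subgroup normalize the frames, and each frame misses one of them
-/

set_option autoImplicit false

namespace Cfsg.Agent.OffProd

open Cfsg Cfsg.Agent Cfsg.Agent.Fusion Cfsg.Agent.BestOff

universe u v

variable {P : Type u} [Group P] {X : Type v} [AddCommGroup X] {φ : P →* AddMonoid.End X} {p : ℕ}
variable [Finite P] [Finite X] [hp : Fact p.Prime] {M T : Subgroup P}

namespace Frame

variable {R R₂ : Set (Subgroup P)} (F : Frame φ p M T R) (K : Ctx φ p M)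
include F K

omit K [Finite X] in
theorem cls_of_mems {C : Subgroup P} (hC : C ∈ mems φ p T) (hCR : C ∉ R) (hCs : C ≤ stab R) :
    Cls φ p M R C :=
  ⟨hC.1, hCs, hCR, hC.2.trans F.le_M⟩

/-- Two frames with a class member of each in the other. -/
theorem pair_aux (F₂ : Frame φ p M T R₂) (hs : ∀ B ∈ R, B ≤ stab R₂) {C H : Subgroup P} {t : P}
    (hC : C ∈ R₂) (hCR : Cls φ p M R C)
    (hH : H ≤ stab R ⊓ Subgroup.normalizer ((T ⊓ kerN M R : Subgroup P) : Set P)) (N : NatH φ M C H t) :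
    H ≤ stab (R \ R₂) ∧ ∀ D ∈ R \ R₂, cen φ D ≤ fixed φ H := by
  have hCT : C ≤ T := (F₂.sub hC).2
  obtain ⟨h, hh, hhM⟩ := N.exH
  have hCh : Fusion.cj C h ≤ H := (cj_mono N.C_le h).trans (cj_eq_self_of_mem hh).le
  have hmain : ∀ c' ∈ Fusion.cj C h, ∀ D ∈ R \ R₂,
      Fusion.cj D c' ∈ R \ R₂ ∧ ∀ v ∈ cen φ D, φ c' v = v := by
    intro c' hc' D hD
    have hc'H : c' ∈ H := hCh hc'
    have hE : Fusion.cj D c' ∈ R := cj_mem_of_stab (hH hc'H).1 hD.1
    have hDc : Cls φ p M R₂ D := F₂.cls_of_mems (F.sub hD.1) hD.2 (hs D hD.1)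
    obtain ⟨H₂, t₂, hH₂, N₂⟩ := F₂.exists_natH₀ K hDc (F.sub hD.1).2
    obtain ⟨h₂, hh₂, hh₂M⟩ := N₂.exH
    have hfix₂ : ∀ B ∈ R₂, neg φ t₂ ≤ fixed φ B := fun B hB =>
      (F₂.neg_le_fixed K hDc (F.sub hD.1).2 (hH₂.trans inf_le_right) N₂).trans (fixed_anti φ (F₂.le_kerN hB))
    have hfix : neg φ t ≤ fixed φ D :=
      (F.neg_le_fixed K hCR hCT (hH.trans inf_le_right) N).trans (fixed_anti φ (F.le_kerN hD.1))
    have hmove : ∀ v, φ c' v - v ∈ cen φ (Fusion.cj C h) := fun v => sub_mem_cen φ hc' v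
    have hE₂ : Fusion.cj D c' ∉ R₂ := by
      intro hcon
      obtain ⟨v, hv, hv0⟩ := (hDc.mem.cj h₂).exists_cen_ne K
      refine hv0 (N₂.disjoint' K hh₂ hh₂M hv fun d hd => ?_)
      set δ := φ c'⁻¹ v - v
      have hδ : δ ∈ neg φ t := N.cen_cj_neg hh (sub_mem_cen φ ((Fusion.cj C h).inv_mem hc') v)
      have h1 : φ (c' * d * c'⁻¹) v = v := hfix₂ _ hcon (N₂.cen_cj_neg hh₂ hv) _ (conj_mem_cj hd)
      have h2 : φ d (φ c'⁻¹ v) = φ c'⁻¹ v := by
        have := congrArg (φ c'⁻¹) h1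
        rwa [← act_mul, show c'⁻¹ * (c' * d * c'⁻¹) = d * c'⁻¹ by group, act_mul] at this
      have e : φ c'⁻¹ v = v + δ := by simp only [δ]; abel
      rw [e, map_add, hfix hδ d hd, add_left_inj] at h2
      exact h2
    refine ⟨⟨hE, hE₂⟩, fun v hv => ?_⟩
    have hEc : Cls φ p M R₂ (Fusion.cj D c') := F₂.cls_of_mems (F.sub hE) hE₂ (hs _ hE)
    have h3 : φ c' v ∈ cen φ D := by
      rw [← F₂.cen_eq K hEc (F.sub hE).2 hDc (F.sub hD.1).2]
      exact act_mem_cen φ c' hv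
    have hcenC : cen φ D ≤ fixed φ C := fun w hw => hfix₂ C hC (N₂.cen_neg hw)
    exact sub_eq_zero.1 (N.disjoint' K hh hhM (hmove v) (sub_mem (hcenC h3) (hcenC hv)))
  have hCs : C ≤ stab (R \ R₂) := fun c hc => mem_stab_of_maps fun D hD =>
    ⟨cj_mem_of_stab (hCR.le_stab hc) hD.1, fun hcon => hD.2 (by
      have := cj_mem_of_stab (inv_mem (F₂.le_stab C hC hc)) hcon
      rwa [cj_cj_inv] at this)⟩
  refine ⟨?_, fun D hD v hv => ?_⟩
  · rw [← N.gen h hh hhM]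
    exact sup_le hCs fun c' hc' => mem_stab_of_maps fun D hD => (hmain c' hc' D hD).1
  · have hDc : Cls φ p M R₂ D := F₂.cls_of_mems (F.sub hD.1) hD.2 (hs D hD.1)
    obtain ⟨H₂, t₂, hH₂, N₂⟩ := F₂.exists_natH₀ K hDc (F.sub hD.1).2
    have hle : C ⊔ Fusion.cj C h ≤ PGV.pstab φ {v} := sup_le
      (fun c hc w hw => Set.mem_singleton_iff.1 hw ▸
        F₂.neg_le_fixed K hDc (F.sub hD.1).2 (hH₂.trans inf_le_right) N₂ (N₂.cen_neg hv) c (F₂.le_kerN hC hc))
      (fun c hc w hw => Set.mem_singleton_iff.1 hw ▸ (hmain c hc D hD).2 v hv)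
    rw [N.gen h hh hhM] at hle
    exact fun g hg => hle hg v rfl

/-- Class members of one frame lie in every other frame. -/
theorem pair (F₂ : Frame φ p M T R₂) (hs : ∀ B ∈ R, B ≤ stab R₂) (hs₂ : ∀ B ∈ R₂, B ≤ stab R)
    (hcard : R₂.ncard = R.ncard) (hne : R₂ ≠ R) {C : Subgroup P} (hC : Cls φ p M R C) (hCT : C ≤ T)
    (hCs : C ≤ stab R₂) : C ∈ R₂ := by
  by_contra hCR₂
  obtain ⟨C₂, hC₂, hC₂R⟩ : ∃ C₂ ∈ R₂, C₂ ∉ R := by
    by_contra hcon
    simp only [not_exists, not_and, not_not] at hcon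
    exact hne (Set.eq_of_subset_of_ncard_le hcon hcard.ge (Set.toFinite _))
  obtain ⟨D, hD, hDR₂⟩ : ∃ D ∈ R, D ∉ R₂ := by
    by_contra hcon
    simp only [not_exists, not_and, not_not] at hcon
    exact hne (Set.eq_of_subset_of_ncard_le hcon hcard.le (Set.toFinite _)).symm
  have hC₂c : Cls φ p M R C₂ := F.cls_of_mems (F₂.sub hC₂) hC₂R (hs₂ C₂ hC₂)
  have hDc : Cls φ p M R₂ D := F₂.cls_of_mems (F.sub hD) hDR₂ (hs D hD)
  have hC' : Cls φ p M R₂ C := F₂.cls_of_mems ⟨hC.mem, hCT⟩ hCR₂ hCs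
  obtain ⟨H, t, hH, N⟩ := F.exists_natH₀ K hC₂c (F₂.sub hC₂).2
  obtain ⟨v, hv, hv0⟩ := hDc.mem.exists_cen_ne K
  refine hv0 (N.neg_fixed K (N.cen_neg ?_) ((F.pair_aux K F₂ hs hC₂ hC₂c hH N).2 D ⟨hD, hDR₂⟩ hv))
  rwa [← F.cen_eq K hC hCT hC₂c (F₂.sub hC₂).2, F₂.cen_eq K hC' hCT hDc (F.sub hD).2]

theorem translate_of_mem {g : P} (hg : g ∈ T) : Frame φ p M T (cjS g R) := by
  have := F.translate K (F.le_M hg)
  rwa [cj_eq_self_of_mem hg] at this

/-- All members of `T` normalize the frame. -/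
theorem mem_le_stab {B : Subgroup P} (hB : B ∈ mems φ p T) : B ≤ stab R := by
  suffices h : T ⊓ stab (mems φ p (T ⊓ stab R)) = T ∧
      ∀ B ∈ mems φ p (T ⊓ stab (mems φ p (T ⊓ stab R))), B ≤ stab R from h.2 B (by rwa [h.1])
  set 𝔇 := mems φ p (T ⊓ stab R)
  set T' := T ⊓ stab 𝔇
  have hR𝔇 : R ⊆ 𝔇 := fun D hD => ⟨(F.sub hD).1, le_inf (F.sub hD).2 (F.le_stab D hD)⟩
  -- the frames translated by `T'` are normalized by `𝔇`
  have hcomp : ∀ g ∈ T', cjS g R ⊆ 𝔇 ∧ ∀ D ∈ 𝔇, D ≤ stab (cjS g R) := by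
    intro g hg
    refine ⟨fun D hD => ?_, fun D hD => ?_⟩
    · obtain ⟨D', hD', rfl⟩ := hD
      exact cj_mem_of_stab hg.2 (hR𝔇 hD')
    · rw [stab_cjS]
      have := cj_mono ((cj_mem_of_stab (inv_mem hg.2) hD).2.trans inf_le_right : Fusion.cj D g⁻¹ ≤ stab R) g
      rwa [cj_inv_cj] at this
  have hB : ∀ B ∈ mems φ p T', B ≤ stab R := by
    intro B hB f hf
    by_contra hfR
    have hf' : f ∈ T' := hB.2 hf
    have hf2 : f * f ∉ stab R := fun h => hfR (by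
      obtain ⟨k, hk⟩ := hB.1.isP ⟨f, hf⟩
      obtain ⟨m, hm⟩ := (hp.out.odd_of_ne_two K.two).pow (n := k)
      have e : f ^ (p ^ k + 1) = f := by rw [pow_succ, show f ^ p ^ k = 1 from congrArg Subtype.val hk, one_mul]
      rw [hm, show 2 * m + 1 + 1 = 2 * (m + 1) by ring, pow_mul, sq] at e
      exact e ▸ pow_mem h _)
    obtain ⟨C, hCm, hCR, hCs⟩ := F.exC
    have hC : Cls φ p M R C := F.cls_of_mems hCm hCR hCs
    have hC𝔇 : C ∈ 𝔇 := ⟨hCm.1, le_inf hCm.2 hCs⟩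
    obtain ⟨H, t, hH, N⟩ := F.exists_natH₀ K hC hCm.2
    have key : ∀ g ∈ T', g ∉ stab R → cen φ (Fusion.cj C g) ≤ fixed φ H := by
      intro g hg hgR
      obtain ⟨hsub, hle⟩ := hcomp g hg
      have F₂ := F.translate_of_mem K hg.1
      have hs : ∀ D ∈ R, D ≤ stab (cjS g R) := fun D hD => hle D (hR𝔇 hD)
      have hs₂ : ∀ D ∈ cjS g R, D ≤ stab R := fun D hD => (hsub hD).2.trans inf_le_right
      have hne : cjS g R ≠ R := hgR
      have hC₂ : C ∈ cjS g R := F.pair K F₂ hs hs₂ (ncard_cjS R g) hne hC hCm.2 (hle C hC𝔇)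
      have hD𝔇 : Fusion.cj C g ∈ 𝔇 := cj_mem_of_stab hg.2 hC𝔇
      have hDR₂ : Fusion.cj C g ∉ cjS g R := fun h => hCR (by rwa [mem_cjS, cj_cj_inv] at h)
      have hDc : Cls φ p M (cjS g R) (Fusion.cj C g) :=
        F₂.cls_of_mems ⟨hD𝔇.1, hD𝔇.2.trans inf_le_left⟩ hDR₂ (hle _ hD𝔇)
      have hDR : Fusion.cj C g ∈ R := F₂.pair K F hs₂ hs (ncard_cjS R g).symm hne.symm hDc
        (hD𝔇.2.trans inf_le_left) (hD𝔇.2.trans inf_le_right)
      exact (F.pair_aux K F₂ hs hC₂ hC hH N).2 _ ⟨hDR, hDR₂⟩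
    obtain ⟨l, hl, hl0⟩ := hC.mem.exists_cen_ne K
    refine hl0 (N.neg_fixed K (N.cen_neg hl) ?_)
    have h1 := key f hf' hfR (act_mem_cen φ f hl)
    have h2 := key (f * f) (mul_mem hf' hf') hf2 (act_mem_cen φ (f * f) hl)
    have hq : φ f (φ f l - l) = φ f l - l := hB.1.quad K.exp K.faithful f hf l f hf
    have e : l = φ f l + φ f l - φ (f * f) l := by
      rw [map_sub] at hq
      rw [act_mul, eq_sub_iff_add_eq, ← sub_eq_zero]
      calc l + φ f (φ f l) - (φ f l + φ f l) = φ f (φ f l) - φ f l - (φ f l - l) := by abel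
        _ = 0 := by rw [hq, sub_self]
    rw [e]
    exact sub_mem (add_mem h1 h1) h2
  refine ⟨?_, hB⟩
  by_contra hne
  refine (SylIn.normalizer_growth inf_le_left hne F.syl.isPGroup).not_ge (le_inf inf_le_left fun x hx => ?_)
  have : mems φ p T' = 𝔇 := Set.Subset.antisymm
    (fun D hD => ⟨hD.1, le_inf (hD.2.trans inf_le_left) (hB D hD)⟩)
    fun D hD => ⟨hD.1, le_inf (hD.2.trans inf_le_left) (hD.2.trans (le_stab_mems _))⟩
  rw [← this]
  exact mem_stab_mems_of_normalizer hx.2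

/-- For a class member `C`: it lies in the other translates, and they are seen trivially by its `SL₂`. -/
theorem pair' {g : P} (hg : g ∈ T) (hgR : g ∉ stab R) {C H : Subgroup P} {t : P} (hC : Cls φ p M R C)
    (hCT : C ≤ T) (hH : H ≤ stab R ⊓ Subgroup.normalizer ((T ⊓ kerN M R : Subgroup P) : Set P))
    (N : NatH φ M C H t) :
    C ∈ cjS g R ∧ H ≤ stab (R \ cjS g R) ∧ ∀ D ∈ R \ cjS g R, cen φ D ≤ fixed φ H := by
  have F₂ := F.translate_of_mem K hg
  have hs : ∀ D ∈ R, D ≤ stab (cjS g R) := fun D hD => F₂.mem_le_stab K (F.sub hD)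
  have hs₂ : ∀ D ∈ cjS g R, D ≤ stab R := fun D hD => F.mem_le_stab K (F₂.sub hD)
  have h := F.pair K F₂ hs hs₂ (ncard_cjS R g) hgR hC hCT (F₂.mem_le_stab K ⟨hC.mem, hCT⟩)
  exact ⟨h, F.pair_aux K F₂ hs h hC hH N⟩

/-- Every member of the frame is outside some translate. -/
theorem exists_outside {D : Subgroup P} (hD : D ∈ R) : ∃ g ∈ T, g ∉ stab R ∧ D ∉ cjS g R := by
  by_contra hcon
  simp only [not_exists, not_and, not_not] at hcon
  obtain ⟨C, hCm, hCR, hCs⟩ := F.exC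
  obtain ⟨H, t, hH, N⟩ := F.exists_natH₀ K (F.cls_of_mems hCm hCR hCs) hCm.2
  obtain ⟨h, hh, hhM⟩ := N.exH
  set Z : Set (Subgroup P) := {D | ∀ g ∈ T, D ∈ cjS g R}
  have hZR : Z ⊆ R := fun D hD => by simpa [cjS_one] using hD 1 (one_mem T)
  have hTZ : T ≤ stab Z := fun s hs => mem_stab_of_maps fun D hD g hg => by
    have := hD (s⁻¹ * g) (mul_mem (inv_mem hs) hg)
    rw [mem_cjS] at this ⊢
    rwa [cj_cj, show g⁻¹ * s = (s⁻¹ * g)⁻¹ by group]
  have hhZ : h ∈ stab Z := mem_stab_of_maps fun D hD g hg => by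
    have hDR : Fusion.cj D h ∈ R := cj_mem_of_stab (hH hh).1 (hZR hD)
    by_cases hgR : g ∈ stab R
    · rwa [mem_stab.1 hgR]
    by_contra hout
    have := cj_mem_of_stab (inv_mem ((F.pair' K hg hgR (F.cls_of_mems hCm hCR hCs) hCm.2 hH N).2.1 hh))
      (show Fusion.cj D h ∈ R \ cjS g R from ⟨hDR, hout⟩)
    rw [cj_cj_inv] at this
    exact this.2 (hD g hg)
  have hDZ : D ∈ Z := fun g hg => by
    by_cases hgR : g ∈ stab R
    · rwa [mem_stab.1 hgR]
    · exact hcon g hg hgR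
  exact (F.sub hD).1.ne (K.eq_top_of_stab F.syl F.le_M hTZ hhZ hhM (fun B hB => (F.sub (hZR hB)).2) D hDZ)

/-- The frame misses only one member of `T`. -/
theorem cls_unique {B C : Subgroup P} (hB : Cls φ p M R B) (hBT : B ≤ T) (hC : Cls φ p M R C) (hCT : C ≤ T) :
    B = C := by
  obtain ⟨H, t, hH, N⟩ := F.exists_natH₀ K hC hCT
  obtain ⟨H', t', -, N'⟩ := F.exists_natH' K hB
  obtain ⟨h, hh, hhM⟩ := N.exH
  choose f hf hf' using fun b : B => F.exists_match K hB hBT hC hCT (hH.trans inf_le_left) N b.2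
  have hfix := F.neg_le_fixed K hC hCT (hH.trans inf_le_right) N
  have hcc := F.commute K hB hC
  by_cases hBC : B ⊓ C = ⊥
  swap
  · obtain ⟨c₀, ⟨hc₀B, hc₀C⟩, hc₀⟩ := (Subgroup.bot_or_exists_ne_one (B ⊓ C)).resolve_left hBC
    refine Subgroup.eq_of_le_of_card_ge (fun b hb => ?_) (F.card_le K hC hB)
    have h1 : (f ⟨b, hb⟩)⁻¹ * b = 1 := K.faithful _ fun v => by
      obtain ⟨u, hu, hw, -⟩ := N.split K v
      have hwB : v - u ∈ fixed φ B := N'.free c₀ hc₀B hc₀ _ (hw c₀ (N.C_le hc₀C))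
      have e1 : φ ((f ⟨b, hb⟩)⁻¹ * b) u = u := hfix hu _ (hf' ⟨b, hb⟩)
      have e2 : φ ((f ⟨b, hb⟩)⁻¹ * b) (v - u) = v - u := by
        rw [act_mul, hwB b hb, hw _ (N.C_le (C.inv_mem (hf ⟨b, hb⟩)))]
      rw [← sub_add_cancel v u, map_add, e1, e2]
    rw [← inv_mul_eq_one.1 h1]
    exact hf ⟨b, hb⟩
  exfalso
  set E := (B ⊔ C) ⊓ (T ⊓ kerN M R) with hE
  have hcomm : ∀ a ∈ B ⊔ C, ∀ b ∈ B ⊔ C, Commute a b := by
    have hle : B ⊔ C ≤ Subgroup.centralizer ((B ⊔ C : Subgroup P) : Set P) := by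
      refine sup_le ?_ ?_ <;> rw [Subgroup.le_centralizer_iff]
      · exact sup_le (fun x hx => Subgroup.mem_centralizer_iff.2 fun y hy => (hB.mem.comm y hy x hx).eq)
          fun x hx => Subgroup.mem_centralizer_iff.2 fun y hy => (hcc y hy x hx).eq
      · exact sup_le (fun x hx => Subgroup.mem_centralizer_iff.2 fun y hy => (hcc x hx y hy).eq.symm)
          fun x hx => Subgroup.mem_centralizer_iff.2 fun y hy => (hC.mem.comm y hy x hx).eq
    exact fun a ha b hb => (Subgroup.mem_centralizer_iff.1 (hle ha) b hb).symm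
  let y : B → E := fun b => ⟨(f b)⁻¹ * b,
    mul_mem (Subgroup.mem_sup_right (C.inv_mem (hf b))) (Subgroup.mem_sup_left b.2), hf' b⟩
  have hinj : Function.Injective y := fun a b e => by
    have e' : (f a)⁻¹ * (a : P) = (f b)⁻¹ * b := congrArg Subtype.val e
    have h2 : (b : P) * (a : P)⁻¹ = f b * (f a)⁻¹ := by
      calc (b : P) * (a : P)⁻¹ = f b * ((f b)⁻¹ * b) * (a : P)⁻¹ := by group
        _ = f b * ((f a)⁻¹ * a) * (a : P)⁻¹ := by rw [e']
        _ = _ := by group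
    have : (b : P) * (a : P)⁻¹ ∈ B ⊓ C :=
      Subgroup.mem_inf.2 ⟨mul_mem b.2 (inv_mem a.2), h2 ▸ mul_mem (hf b) (C.inv_mem (hf a))⟩
    rw [hBC, Subgroup.mem_bot, mul_inv_eq_one] at this
    exact (Subtype.ext this).symm
  have hcard : Nat.card B ≤ Nat.card E := Nat.card_le_card_of_injective y hinj
  -- the fixed points
  set Z := fixed φ H ⊓ fixed φ B
  have hZ : Z ⊔ neg φ t ≤ fixed φ E := by
    refine sup_le (fun v hv e he => ?_) (hfix.trans (fixed_anti φ inf_le_right))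
    have hle : B ⊔ C ≤ PGV.pstab φ {v} := sup_le
      (fun b hb w hw => Set.mem_singleton_iff.1 hw ▸ hv.2 b hb)
      (fun c hc w hw => Set.mem_singleton_iff.1 hw ▸ hv.1 c (N.C_le hc))
    exact hle he.1 v rfl
  have htop : fixed φ H ⊔ (Z ⊔ neg φ t) = ⊤ := by
    refine eq_top_iff.2 fun v _ => ?_
    obtain ⟨u, hu, hw, -⟩ := N.split K v
    rw [← sub_add_cancel v u]
    exact add_mem (AddSubgroup.mem_sup_left hw) (AddSubgroup.mem_sup_right (AddSubgroup.mem_sup_right hu))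
  have hidx : (Z ⊔ neg φ t).index ≤ Nat.card B := by
    rw [← AddSubgroup.relIndex_top_right, ← htop, AddSubgroup.relIndex_sup_right, ← N'.index,
      ← AddSubgroup.relIndex_top_right (H := fixed φ B)]
    calc (Z ⊔ neg φ t).relIndex (fixed φ H) ≤ Z.relIndex (fixed φ H) :=
          AddSubgroup.relIndex_le_of_le_left le_sup_left AddSubgroup.index_ne_zero_of_finite
      _ = (fixed φ B).relIndex (fixed φ H) := AddSubgroup.inf_relIndex_left _ _
      _ ≤ _ := AddSubgroup.relIndex_le_of_le_right le_top AddSubgroup.index_ne_zero_of_finite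
  have hoff : Nat.card X ≤ off φ E := by
    rw [← AddSubgroup.index_mul_card (Z ⊔ neg φ t)]
    exact Nat.mul_le_mul (hidx.trans hcard) (AddSubgroup.card_le_of_le hZ)
  have hEne : E ≠ ⊥ := fun e => hB.mem.ne (Subgroup.eq_bot_of_card_le B (by
    have := hcard
    rwa [e, Subgroup.card_bot] at this))
  obtain ⟨D, hDE, hD⟩ := exists_mem_le hEne (F.syl.isPGroup.to_le (inf_le_right.trans inf_le_left))
    (fun a ha b hb => hcomm a ha.1 b hb.1) hoff
  have hDT : D ≤ T := hDE.trans (inf_le_right.trans inf_le_left)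
  have hDR : D ∈ R := by
    by_contra hDR
    refine hhM (F.exit₀ K hD (fun d hd => (hDE hd).2.2.1) hDR (hDT.trans F.le_M) (hH hh).1 fun d hd => ?_)
    exact mem_cj.2 ((hDE hd).2.2.2 h (hH hh).1)
  obtain ⟨g, hg, hgR, hDg⟩ := F.exists_outside K hDR
  obtain ⟨v, hv, hv0⟩ := hD.exists_cen_ne K
  refine hv0 (N.neg_fixed K (N.cen_neg ?_) ((F.pair' K hg hgR hC hCT hH N).2.2 D ⟨hDR, hDg⟩ hv))
  -- the commutators lie in the centre of `C`
  let S : Subgroup P :=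
    { carrier := {x | (∀ l ∈ cen φ C, φ x l = l) ∧ ∀ w, φ x w - w ∈ cen φ C}
      one_mem' := ⟨fun l _ => act_one φ l, fun w => by rw [act_one, sub_self]; exact zero_mem _⟩
      mul_mem' := fun {a b} ha hb => ⟨fun l hl => by rw [act_mul, hb.1 l hl, ha.1 l hl], fun w => by
        rw [act_mul, show φ a (φ b w) - w = (φ a (φ b w) - φ b w) + (φ b w - w) by abel]
        exact add_mem (ha.2 _) (hb.2 w)⟩
      inv_mem' := fun {a} ha => ⟨fun l hl => by
        conv_lhs => rw [← ha.1 l hl]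
        exact act_inv_self φ a l, fun w => by
        have := ha.2 (φ a⁻¹ w)
        rw [act_self_inv] at this
        simpa using neg_mem this⟩ }
  have hS : B ⊔ C ≤ S := sup_le
    (fun b hb => ⟨fun l hl => hB.mem.cen_le_fixed K.exp K.faithful ((F.cen_eq K hB hBT hC hCT).symm ▸ hl) b hb,
      fun w => (F.cen_eq K hB hBT hC hCT) ▸ sub_mem_cen φ hb w⟩)
    (fun c hc => ⟨fun l hl => hC.mem.cen_le_fixed K.exp K.faithful hl c hc, fun w => sub_mem_cen φ hc w⟩)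
  refine (AddSubgroup.closure_le (cen φ C)).2 ?_ hv
  rintro _ ⟨w, d, hd, rfl⟩
  exact (hS (hDE hd).1).2 w

theorem eq_of_not_mem {B C : Subgroup P} (hB : B ∈ mems φ p T) (hBR : B ∉ R) (hC : C ∈ mems φ p T) (hCR : C ∉ R) :
    B = C :=
  F.cls_unique K (F.cls_of_mems hB hBR (F.mem_le_stab K hB)) hB.2 (F.cls_of_mems hC hCR (F.mem_le_stab K hC)) hC.2

/-- The class is a singleton. -/
theorem cls_eq {B C : Subgroup P} (hB : Cls φ p M R B) (hC : C ∈ mems φ p T) (hCR : C ∉ R) : B = C := by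
  have hC' := F.cls_of_mems hC hCR (F.mem_le_stab K hC)
  have hBC : IsPGroup p (B ⊔ C : Subgroup P) := hB.mem.isP.to_sup_of_normal_right' hC.1.isP fun b hb =>
    Subgroup.centralizer_le_normalizer _ (Subgroup.mem_centralizer_iff.2 fun c hc =>
      (F.commute K hB hC' b hb c hc).eq.symm)
  have hp' : IsPGroup p ((B ⊔ C) ⊔ sSup R : Subgroup P) :=
    hBC.to_sup_of_normal_right' F.isP_sSup ((sup_le hB.le_stab hC'.le_stab).trans le_normalizer_sSup)
  obtain ⟨U, hU, hUM, hle⟩ := K.exists_syl_ge hp' (g := 1) (by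
    rw [cj_one]
    exact sup_le (sup_le hB.le_M hC'.le_M) (sSup_le fun D hD => (F.sub hD).2.trans F.le_M))
  obtain ⟨x, -, hx⟩ := F.syl.conj_eq hU
  have hT : mems φ p T ⊆ insert C R := fun D hD => by
    by_cases hDR : D ∈ R
    · exact Or.inr hDR
    · exact Or.inl (F.eq_of_not_mem K hD hDR hC hCR)
  by_contra hne
  have hsub : insert B (insert C R) ⊆ mems φ p U := by
    rintro D (rfl | rfl | hD)
    · exact ⟨hB.mem, (le_sup_left.trans le_sup_left).trans hle⟩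
    · exact ⟨hC.1, (le_sup_right.trans le_sup_left).trans hle⟩
    · exact ⟨(F.sub hD).1, (((le_sSup hD).trans le_sup_right)).trans hle⟩
  have h1 := Set.ncard_le_ncard hsub (Set.toFinite _)
  rw [← hx, mems_cj', ncard_cjS, Set.ncard_insert_of_notMem (by simp [hne, hB.not_mem]) (Set.toFinite _)] at h1
  have h2 := Set.ncard_le_ncard hT (Set.toFinite _)
  omega

/-- Any `SL₂` of the class member contains all members outside `R` and is normal in the stabilizer. -/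
theorem stab_le_normalizer {C H : Subgroup P} {t : P} (hC : C ∈ mems φ p T) (hCR : C ∉ R) (hH : H ≤ stab R)
    (N : NatH φ M C H t) : stab R ≤ Subgroup.normalizer (H : Set P) := by
  have hC' := F.cls_of_mems hC hCR (F.mem_le_stab K hC)
  obtain ⟨h, hh, hhM⟩ := N.exH
  have key : ∀ n ∈ stab R, Fusion.cj C n ≤ H := by
    intro n hn
    rcases F.class_cases K hC' hH N hh hhM hn with hnM | ⟨c, hc, hcn⟩
    · rw [F.cls_eq K (hC'.cj hn hnM) hC hCR]; exact N.C_le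
    · have hch : c * h ∈ H := mul_mem (N.C_le hc) hh
      have hm : (c * h)⁻¹ * n ∈ stab R := mul_mem (inv_mem (hH hch)) hn
      rw [show n = c * h * ((c * h)⁻¹ * n) by group, ← cj_cj, F.cls_eq K (hC'.cj hm hcn) hC hCR]
      exact (cj_mono N.C_le _).trans (cj_eq_self_of_mem hch).le
  intro n hn
  refine mem_normalizer_of_cj_le ?_
  nth_rewrite 1 [← N.gen h hh hhM]
  rw [cj_sup, cj_cj]
  exact sup_le (key n hn) (key _ (mul_mem hn (hH hh)))

end Frame

end Cfsg.Agent.OffProd
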