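import Cfsg.Agent.Lib.PushUp.OffProd.Frame

/-!
# The natural `SL₂` generated by a member outside the frame
-/

set_option autoImplicit false

namespace Cfsg.Agent.OffProd

open Cfsg Cfsg.Agent Cfsg.Agent.Fusion Cfsg.Agent.BestOff

universe u v

variable {P : Type u} [Group P] {X : Type v} [AddCommGroup X] (φ : P →* AddMonoid.End X) {p : ℕ}

/-- The vectors negated by `t`. -/
def neg (t : P) : AddSubgroup X where
  carrier := {v | φ t v = -v}
  zero_mem' := by simp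
  add_mem' := fun {a b} ha hb => by
    show φ t (a + b) = -(a + b)
    rw [map_add, show φ t a = -a from ha, show φ t b = -b from hb, neg_add]
  neg_mem' := fun {a} ha => by
    show φ t (-a) = - -a
    rw [map_neg, show φ t a = -a from ha]

theorem mem_neg {t : P} {v : X} : v ∈ neg φ t ↔ φ t v = -v := Iff.rfl

/-- `C` generates `H ≅ SL₂(|C|)` with each conjugate outside `M`, `t` is the central involution, `[X, t]` natural. -/
structure NatH (M C H : Subgroup P) (t : P) : Prop where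
  C_le : C ≤ H
  t_mem : t ∈ H
  t_comm : ∀ h ∈ H, Commute t h
  t_sq : t * t = 1
  t_fix : ∀ v, φ t v = v → v ∈ fixed φ H
  cen_neg : cen φ C ≤ neg φ t
  fix_cen : ∀ v ∈ fixed φ C, v ∈ neg φ t → v ∈ cen φ C
  cen_fix : cen φ C ≤ fixed φ C
  card_cen : Nat.card (cen φ C) = Nat.card C
  index : (fixed φ C).index = Nat.card C
  free : ∀ c ∈ C, c ≠ 1 → ∀ v, φ c v = v → v ∈ fixed φ C
  sup : ∀ h ∈ H, h ∉ M → fixed φ C ⊔ fixed φ (cj C h) = ⊤
  gen : ∀ h ∈ H, h ∉ M → C ⊔ cj C h = H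
  tc : ∀ c ∈ C, ∀ h ∈ H, h ∉ M → c ∈ cj M h → c = 1
  exH : ∃ h ∈ H, h ∉ M
  spread : ∀ u ∈ neg φ t, ∃ h ∈ H, u ∈ cen φ (cj C h)
  onto : ∀ u, u ∉ fixed φ C → ∀ l ∈ cen φ C, ∃ c ∈ C, φ c u - u = l
  torus : ∃ x ∈ H, cj C x = C ∧ x ^ (Nat.card C - 1) = 1 ∧
    ∀ l ∈ cen φ C, ∀ l' ∈ cen φ C, l ≠ 0 → l' ≠ 0 → ∃ n : ℕ, φ (x ^ n) l = l'
  iso : ∃ (F : Type v) (_ : Field F) (_ : Fintype F), Fintype.card F = Nat.card C ∧
    Nonempty (H ≃* Matrix.SpecialLinearGroup (Fin 2) F)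

variable {φ}

theorem halve {k : ℕ} (hk : 2 * k = p + 1) {x : X} (hx : p • x = 0) : k • x + k • x = x := by
  rw [← add_nsmul, ← two_mul, hk, succ_nsmul, hx, zero_add]

theorem eq_zero_of_eq_neg (hp : p.Prime) (h2 : p ≠ 2) {x : X} (hx : p • x = 0) (e : x = -x) : x = 0 := by
  obtain ⟨k, hk⟩ : ∃ k, 2 * k = p + 1 := by
    obtain ⟨m, hm⟩ := hp.odd_of_ne_two h2
    exact ⟨m + 1, by omega⟩
  rw [← halve hk hx, ← nsmul_add]
  nth_rewrite 2 [e]
  rw [add_neg_cancel, nsmul_zero]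

theorem exists_sl2_col {F : Type*} [Field F] (e : Fin 2 → F) (he : e ≠ 0) :
    ∃ A : Matrix.SpecialLinearGroup (Fin 2) F, (A : Matrix (Fin 2) (Fin 2) F).mulVec ![1, 0] = e := by
  by_cases h0 : e 0 = 0
  · have h1 : e 1 ≠ 0 := fun h => he (funext fun i => by fin_cases i <;> assumption)
    refine ⟨⟨!![0, -(e 1)⁻¹; e 1, 0], by simp [Matrix.det_fin_two, h1]⟩, ?_⟩
    funext i
    fin_cases i <;> simp [Matrix.mulVec, dotProduct, Fin.sum_univ_two, h0]
  · refine ⟨⟨!![e 0, 0; e 1, (e 0)⁻¹], by simp [Matrix.det_fin_two, h0]⟩, ?_⟩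
    funext i
    fin_cases i <;> simp [Matrix.mulVec, dotProduct, Fin.sum_univ_two]

theorem fixed_comp_subgroupOf {H C : Subgroup P} (h : C ≤ H) :
    fixed (φ.comp H.subtype) (C.subgroupOf H) = fixed φ C := by
  ext v
  exact ⟨fun hv c hc => hv ⟨c, h hc⟩ hc, fun hv c hc => hv c hc⟩

theorem fixed_comp_top {H : Subgroup P} :
    fixed (φ.comp H.subtype) (⊤ : Subgroup H) = fixed φ H := by
  ext v
  exact ⟨fun hv c hc => hv ⟨c, hc⟩ trivial, fun hv c _ => hv c c.2⟩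

/-- The diagonal element. -/
def diag2 {F : Type*} [Field F] (μ : Fˣ) : Matrix.SpecialLinearGroup (Fin 2) F :=
  ⟨!![(μ : F), 0; 0, (↑μ⁻¹ : F)], by simp [Matrix.det_fin_two]⟩

theorem coe_diag2_pow {F : Type*} [Field F] (μ : Fˣ) (n : ℕ) :
    ((diag2 μ ^ n : Matrix.SpecialLinearGroup (Fin 2) F) : Matrix (Fin 2) (Fin 2) F) =
      !![((μ ^ n : Fˣ) : F), 0; 0, (((μ ^ n)⁻¹ : Fˣ) : F)] := by
  induction n with
  | zero => ext i j; fin_cases i <;> fin_cases j <;> simp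
  | succ n ih =>
    rw [pow_succ, Matrix.SpecialLinearGroup.coe_mul, ih]
    ext i j
    fin_cases i <;> fin_cases j <;>
      simp [diag2, Matrix.mul_apply, Fin.sum_univ_two, pow_succ, mul_comm]

/-- A point stabiliser of `SL₂` is upper unitriangular in suitable coordinates. -/
theorem sl2_fix_first {F : Type*} [Field F] {B : Matrix.SpecialLinearGroup (Fin 2) F}
    (h : (B : Matrix (Fin 2) (Fin 2) F).mulVec ![1, 0] = ![1, 0]) :
    (B : Matrix (Fin 2) (Fin 2) F) = !![1, B 0 1; 0, 1] := by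
  have h0 : B 0 0 = 1 := by simpa [Matrix.mulVec, dotProduct, Fin.sum_univ_two] using congrFun h 0
  have h1 : B 1 0 = 0 := by simpa [Matrix.mulVec, dotProduct, Fin.sum_univ_two] using congrFun h 1
  have hd := B.det_coe
  rw [Matrix.det_fin_two, h0, h1] at hd
  have h2 : B 1 1 = 1 := by simpa using hd
  ext i j
  fin_cases i <;> fin_cases j <;> simp [h0, h1, h2]

/-- A torus element rotating the line. -/
theorem exists_torus {H C : Subgroup P} (hCH : C ≤ H) [Finite P] [Finite X] {F : Type*} [Field F] [Fintype F]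
    (hF : Fintype.card F = Nat.card C) (R : H →* Matrix.SpecialLinearGroup (Fin 2) F) (hRb : Function.Bijective R)
    (ψ : X →+ (Fin 2 → F))
    (hact : ∀ (g : H) (v : X), ψ (φ (g : P) v) = (R g : Matrix (Fin 2) (Fin 2) F).mulVec (ψ v))
    (t : P) (hcomm : ∀ h ∈ H, Commute t h) (hinj : ∀ v ∈ neg φ t, ψ v = 0 → v = 0)
    (hcn : cen φ C ≤ neg φ t) (hfc : cen φ C ≤ fixed φ C) (hcc : Nat.card (cen φ C) = Nat.card C) :
    ∃ x ∈ H, cj C x = C ∧ x ^ (Nat.card C - 1) = 1 ∧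
      ∀ l ∈ cen φ C, ∀ l' ∈ cen φ C, l ≠ 0 → l' ≠ 0 → ∃ n : ℕ, φ (x ^ n) l = l' := by
  classical
  obtain ⟨⟨l₀, hl₀⟩, hl₀0⟩ : ∃ l : cen φ C, l ≠ 0 := by
    haveI : Nontrivial (cen φ C) := Finite.one_lt_card_iff_nontrivial.1 (by
      rw [hcc, ← hF]; exact Fintype.one_lt_card)
    exact exists_ne 0
  have hne : ψ l₀ ≠ 0 := fun h => hl₀0 (Subtype.ext (hinj l₀ (hcn hl₀) h))
  obtain ⟨A, hA⟩ := exists_sl2_col (ψ l₀) hne
  -- coordinates on the line
  let u : H → Matrix.SpecialLinearGroup (Fin 2) F := fun h => A⁻¹ * R h * A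
  have hu : ∀ h : H, φ (h : P) l₀ = l₀ → (u h : Matrix (Fin 2) (Fin 2) F) = !![1, u h 0 1; 0, 1] := fun h hh => by
    refine sl2_fix_first ?_
    simp only [u, Matrix.SpecialLinearGroup.coe_mul, ← Matrix.mulVec_mulVec]
    rw [hA, ← hact, hh, ← hA, Matrix.mulVec_mulVec, ← Matrix.SpecialLinearGroup.coe_mul, inv_mul_cancel,
      Matrix.SpecialLinearGroup.coe_one, Matrix.one_mulVec]
  have hueq : ∀ h k : H, φ (h : P) l₀ = l₀ → φ (k : P) l₀ = l₀ → u h 0 1 = u k 0 1 → h = k := fun h k hh hk e => by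
    refine hRb.1 (mul_left_cancel (mul_right_cancel (?_ : A⁻¹ * R h * A = A⁻¹ * R k * A)))
    refine Subtype.ext ?_
    show (u h : Matrix (Fin 2) (Fin 2) F) = u k
    rw [hu h hh, hu k hk, e]
  have hCfix : ∀ c ∈ C, φ c l₀ = l₀ := fun c hc => hfc hl₀ c hc
  have hFC : Nat.card C = Nat.card F := by rw [← hF, Nat.card_eq_fintype_card]
  let f : C → F := fun c => u ⟨c, hCH c.2⟩ 0 1
  have hfinj : Function.Injective f := fun c d e => Subtype.ext (congrArg Subtype.val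
    (hueq ⟨c, hCH c.2⟩ ⟨d, hCH d.2⟩ (hCfix c c.2) (hCfix d d.2) e) :)
  have hfsurj := ((Nat.bijective_iff_injective_and_card f).2 ⟨hfinj, hFC⟩).2
  have hstab : ∀ h ∈ H, φ h l₀ = l₀ → h ∈ C := fun h hh hfix => by
    obtain ⟨c, hc⟩ := hfsurj (u ⟨h, hh⟩ 0 1)
    have : (c : P) = h := congrArg Subtype.val (hueq ⟨c, hCH c.2⟩ ⟨h, hh⟩ (hCfix c c.2) hfix hc)
    exact this ▸ c.2
  have hline : ∀ l ∈ cen φ C, ∃ a : F, ψ l = a • ψ l₀ := fun l hl => by
    obtain ⟨c, hc⟩ := hfsurj 1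
    set w := (A⁻¹ : Matrix.SpecialLinearGroup (Fin 2) F).1.mulVec (ψ l) with hw
    have e1 : (u ⟨c, hCH c.2⟩ : Matrix (Fin 2) (Fin 2) F).mulVec w = w := by
      simp only [hw, u, Matrix.SpecialLinearGroup.coe_mul, Matrix.mulVec_mulVec]
      rw [mul_assoc, mul_assoc, ← Matrix.SpecialLinearGroup.coe_mul A, mul_inv_cancel,
        Matrix.SpecialLinearGroup.coe_one, mul_one, ← Matrix.mulVec_mulVec, ← hact, hfc hl _ c.2]
    rw [hu _ (hCfix c c.2), show u ⟨c, hCH c.2⟩ 0 1 = 1 from hc] at e1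
    have hw1 : w 1 = 0 := by
      have := congrFun e1 0
      simpa [Matrix.mulVec, dotProduct, Fin.sum_univ_two] using this
    refine ⟨w 0, ?_⟩
    have e2 : w = w 0 • ![1, 0] := by
      funext i; fin_cases i <;> simp [hw1]
    rw [← hA, ← Matrix.mulVec_smul, ← e2, hw, Matrix.mulVec_mulVec, ← Matrix.SpecialLinearGroup.coe_mul,
      mul_inv_cancel, Matrix.SpecialLinearGroup.coe_one, Matrix.one_mulVec]
  choose a ha using hline
  let g : cen φ C → F := fun l => a l l.2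
  have hginj : Function.Injective g := fun l l' e => Subtype.ext (sub_eq_zero.1 (hinj _ (sub_mem (hcn l.2) (hcn l'.2))
    (by rw [map_sub, ha l l.2, ha l' l'.2, show a l l.2 = a l' l'.2 from e, sub_self])))
  have hgsurj := ((Nat.bijective_iff_injective_and_card g).2 ⟨hginj, hcc.trans hFC⟩).2
  -- the generator
  obtain ⟨μ, hμ⟩ := IsCyclic.exists_generator (α := Fˣ)
  obtain ⟨x, hx⟩ := hRb.2 (A * diag2 μ * A⁻¹)
  have hxpow : ∀ n : ℕ, R (x ^ n) = A * diag2 μ ^ n * A⁻¹ := fun n => by rw [map_pow, hx, conj_pow]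
  have hxact : ∀ (n : ℕ), ψ (φ ((x : P) ^ n) l₀) = ((μ ^ n : Fˣ) : F) • ψ l₀ := fun n => by
    rw [← SubmonoidClass.coe_pow, hact, hxpow, Matrix.SpecialLinearGroup.coe_mul, Matrix.SpecialLinearGroup.coe_mul,
      ← Matrix.mulVec_mulVec, ← hA, Matrix.mulVec_mulVec _ (A⁻¹ : Matrix.SpecialLinearGroup (Fin 2) F).1,
      ← Matrix.SpecialLinearGroup.coe_mul A⁻¹ A, inv_mul_cancel,
      Matrix.SpecialLinearGroup.coe_one, Matrix.one_mulVec, ← Matrix.mulVec_mulVec, ← Matrix.mulVec_smul]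
    congr 1
    rw [coe_diag2_pow]
    funext i; fin_cases i <;> simp [Matrix.mulVec, dotProduct, Fin.sum_univ_two]
  have hsame : ∀ (n : ℕ), ∀ l ∈ cen φ C, ∀ l' ∈ cen φ C, ψ l' = ((μ ^ n : Fˣ) : F) • ψ l → φ ((x : P) ^ n) l = l' := by
    intro n l hl l' hl' e
    have hnegl : φ ((x : P) ^ n) l ∈ neg φ t := by
      rw [mem_neg, ← act_mul, (hcomm _ (pow_mem x.2 n)).eq, act_mul, mem_neg φ |>.1 (hcn hl), map_neg]
    refine sub_eq_zero.1 (hinj _ (sub_mem hnegl (hcn hl')) ?_)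
    rw [map_sub, sub_eq_zero, e, ha l hl, ← SubmonoidClass.coe_pow, hact, ha l hl, Matrix.mulVec_smul, ← hact,
      SubmonoidClass.coe_pow, hxact, smul_comm]
  have hinv : ∀ (n : ℕ), ∀ l ∈ cen φ C, φ ((x : P) ^ n) l ∈ cen φ C := fun n l hl => by
    obtain ⟨⟨l', hl'⟩, e⟩ := hgsurj (((μ ^ n : Fˣ) : F) * a l hl)
    rw [hsame n l hl l' hl' (by rw [ha l' hl', show a l' hl' = _ from e, ha l hl, smul_smul])]
    exact hl'
  have hord : (x : P) ^ (Nat.card C - 1) = 1 := by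
    rw [← SubmonoidClass.coe_pow]
    refine congrArg Subtype.val (hRb.1 (?_ : R (x ^ (Nat.card C - 1)) = R 1))
    have hμ1 : μ ^ (Nat.card C - 1) = 1 := by
      rw [← hF, ← Fintype.card_units]; exact pow_card_eq_one
    have : diag2 μ ^ (Nat.card C - 1) = 1 := by
      apply Subtype.ext
      rw [coe_diag2_pow, hμ1]
      ext i j; fin_cases i <;> fin_cases j <;> simp
    rw [hxpow, map_one, this, mul_one, mul_inv_cancel]
  refine ⟨x, x.2, Subgroup.eq_of_le_of_card_ge ?_ (card_cj C _).ge, hord, fun l hl l' hl' hl0 hl0' => ?_⟩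
  · rintro _ ⟨c, hc, rfl⟩
    refine hstab _ (mul_mem (mul_mem x.2 (hCH hc)) (inv_mem x.2)) ?_
    have hxi : (x : P)⁻¹ = (x : P) ^ (orderOf (x : P) - 1) := by
      rw [inv_eq_iff_mul_eq_one, ← pow_succ', Nat.sub_add_cancel (orderOf_pos _), pow_orderOf_eq_one]
    show φ ((x : P) * c * (x : P)⁻¹) l₀ = l₀
    rw [mul_assoc, act_mul, act_mul, hfc (hxi ▸ hinv _ l₀ hl₀ : φ (x : P)⁻¹ l₀ ∈ cen φ C) c hc, act_self_inv]
  · have hal : a l hl ≠ 0 := fun h => hl0 (hinj l (hcn hl) (by rw [ha l hl, h, zero_smul]))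
    have hal' : a l' hl' ≠ 0 := fun h => hl0' (hinj l' (hcn hl') (by rw [ha l' hl', h, zero_smul]))
    obtain ⟨n, hn⟩ := (mem_powers_iff_mem_zpowers (G := Fˣ)).2 (hμ (Units.mk0 (a l' hl') hal' / Units.mk0 (a l hl) hal))
    refine ⟨n, hsame n l hl l' hl' ?_⟩
    rw [show μ ^ n = _ from hn, ha l hl, ha l' hl', smul_smul, Units.val_div_eq_div_val, Units.val_mk0, Units.val_mk0,
      div_mul_cancel₀ _ hal]

variable [Finite P] [Finite X] [hp : Fact p.Prime] {M : Subgroup P}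

/-- The structure from the data. -/
theorem natH_of_data {C H T : Subgroup P} (hp2 : p ≠ 2) (hCH : C ≤ H) (hTH : T ≤ H)
    (D : Data (φ.comp H.subtype) (C.subgroupOf H) (T.subgroupOf H) (M.subgroupOf H) p) :
    ∃ t, NatH φ M C H t := by
  have hexp : ∀ v : X, p • v = 0 := D.exp
  have hfaith : ∀ g : H, (∀ v, φ g v = v) → g = 1 := D.faithful
  obtain ⟨hfirst, F, _, _, R, ψ, hF, hRb, hψs, hψ0, hact⟩ := D.exists_natural
  simp only [fixed_comp_subgroupOf hCH, fixed_comp_top] at hfirst hψ0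
  have hcard : Nat.card (C.subgroupOf H) = Nat.card C := Nat.card_congr (Subgroup.subgroupOfEquivOfLe hCH).toEquiv
  obtain ⟨t', ht'⟩ := hRb.2 (⟨-1, by simp [Matrix.det_fin_two]⟩ : Matrix.SpecialLinearGroup (Fin 2) F)
  set t : P := (t' : P)
  have ht'' : ((R t' : Matrix.SpecialLinearGroup (Fin 2) F) : Matrix (Fin 2) (Fin 2) F) = -1 := by rw [ht']
  have hψt : ∀ v, ψ (φ t v) = -ψ v := fun v => by
    show ψ ((φ.comp H.subtype) t' v) = _
    rw [hact, ht']
    simp [Matrix.neg_mulVec]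
  have hz : ∀ v, ψ v = -ψ v → v ∈ fixed φ H := fun v hv => by
    refine (hψ0 v).1 (eq_zero_of_eq_neg hp.out hp2 ?_ hv)
    rw [← map_nsmul, hexp, map_zero]
  have hneg0 : ∀ v ∈ neg φ t, v ∈ fixed φ H → v = 0 := fun v hv hv' => by
    refine eq_zero_of_eq_neg hp.out hp2 (hexp v) ?_
    rw [← mem_neg φ |>.1 hv, hv' t t'.2]
  have hcomm : ∀ h ∈ H, Commute t h := fun h hh => by
    refine congrArg Subtype.val (hRb.1 (?_ : R (t' * ⟨h, hh⟩) = R (⟨h, hh⟩ * t')))
    rw [map_mul, map_mul]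
    apply Subtype.ext
    rw [Matrix.SpecialLinearGroup.coe_mul, Matrix.SpecialLinearGroup.coe_mul, ht'']
    simp
  have hsq : t * t = 1 := congrArg Subtype.val (hRb.1 (show R (t' * t') = R 1 by
    rw [map_mul, map_one]
    apply Subtype.ext
    rw [Matrix.SpecialLinearGroup.coe_mul, Matrix.SpecialLinearGroup.coe_one, ht'']
    simp))
  have ht2 : ∀ v, φ t (φ t v) = v := fun v => by rw [← act_mul, hsq, act_one]
  obtain ⟨k, hk⟩ : ∃ k, 2 * k = p + 1 := by
    obtain ⟨m, hm⟩ := hp.out.odd_of_ne_two hp2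
    exact ⟨m + 1, by omega⟩
  have hsplit : ∀ v, ∃ u ∈ neg φ t, v - u ∈ fixed φ H := fun v => by
    refine ⟨k • (v - φ t v), ?_, hz _ ?_⟩
    · rw [mem_neg, map_nsmul, map_sub, ht2, ← smul_neg, neg_sub]
    · rw [map_sub, map_nsmul, map_sub, hψt, sub_neg_eq_add, nsmul_add,
        halve hk (show p • ψ v = 0 by rw [← map_nsmul, hexp, map_zero]), sub_self, neg_zero]
  have hcn : cen φ C ≤ neg φ t := (AddSubgroup.closure_le _).2 (by
    rintro _ ⟨v, c, hc, rfl⟩
    obtain ⟨u, hu, hw⟩ := hsplit v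
    have e : φ c v - v = φ c u - u := by
      have h1 := hw c (hCH hc)
      rw [map_sub] at h1
      rw [sub_eq_sub_iff_sub_eq_sub.1 h1]
    rw [SetLike.mem_coe, mem_neg, e, map_sub, ← act_mul, (hcomm c (hCH hc)).eq, act_mul,
      mem_neg φ |>.1 hu, map_neg, neg_sub_neg, neg_sub])
  have hfc : cen φ C ≤ fixed φ C := (AddSubgroup.closure_le _).2 (by
    rintro _ ⟨v, c, hc, rfl⟩
    intro d hd
    exact D.quad ⟨c, hCH hc⟩ hc v ⟨d, hCH hd⟩ hd)
  have hfx : ∀ v ∈ fixed φ C, v ∈ neg φ t → v ∈ cen φ C := fun v hv hvt => by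
    obtain ⟨a, w, ha, hd⟩ := hfirst v hv
    have h1 : φ (a : P) w - w ∈ cen φ C := sub_mem_cen φ (show (a : P) ∈ C from ha) w
    have h2 : v - (φ (a : P) w - w) = 0 := hneg0 _ (sub_mem hvt (hcn h1)) hd
    rw [sub_eq_zero.1 h2]
    exact h1
  obtain ⟨x₀, hx₀⟩ := D.notMem_M
  obtain ⟨e1, -, -, eP⟩ := D.equalities hx₀
  rw [fixed_comp_subgroupOf hCH, hcard] at e1
  rw [fixed_comp_top, fixed_comp_subgroupOf hCH, hcard] at eP
  have hWC : fixed φ H ≤ fixed φ C := fixed_anti φ hCH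
  have hcc : Nat.card (cen φ C) = Nat.card C := by
    have e2 := PGV.card_inf_mul_sup (fixed φ H) (cen φ C)
    have e3 : fixed φ H ⊔ cen φ C = fixed φ C := by
      refine le_antisymm (sup_le hWC hfc) fun v hv => ?_
      obtain ⟨u, hu, hw⟩ := hsplit v
      have huC : u ∈ cen φ C := hfx u (by
        have := sub_mem hv (hWC hw)
        rwa [sub_sub_cancel] at this) hu
      rw [← sub_add_cancel v u]
      exact add_mem (AddSubgroup.mem_sup_left hw) (AddSubgroup.mem_sup_right huC)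
    have e4 : fixed φ H ⊓ cen φ C = ⊥ := eq_bot_iff.2 fun v hv => hneg0 v (hcn hv.2) hv.1
    have e5 : Nat.card (fixed φ H) * Nat.card C = Nat.card (fixed φ C) := by
      rw [← eP, ← AddSubgroup.relIndex_bot_left, ← AddSubgroup.relIndex_bot_left]
      exact AddSubgroup.relIndex_mul_relIndex _ _ _ bot_le hWC
    rw [e3, e4, ← e5] at e2
    have : Nat.card (⊥ : AddSubgroup X) = 1 := AddSubgroup.card_bot
    rw [this, mul_one] at e2
    exact Nat.eq_of_mul_eq_mul_left Nat.card_pos e2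
  have hfree : ∀ c ∈ C, c ≠ 1 → ∀ v, φ c v = v → v ∈ fixed φ C := fun c hc hc1 v hv => by
    have := D.free (a := ⟨c, hCH hc⟩) hc (fun h => hc1 (congrArg Subtype.val h)) (v := v)
      (by show φ c v - v ∈ _; rw [hv, sub_self]; exact zero_mem _)
    rwa [fixed_comp_subgroupOf hCH] at this
  have hconj : ∀ (x : P) (hx : x ∈ H), (C.subgroupOf H).map (MulAut.conj (⟨x, hx⟩ : H)).toMonoidHom =
      (cj C x).subgroupOf H := fun x hx => by
    ext y
    simp only [Subgroup.mem_subgroupOf, Subgroup.mem_map, MulEquiv.toMonoidHom_eq_coe, MonoidHom.coe_coe,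
      MulAut.conj_apply, Subtype.exists]
    constructor
    · rintro ⟨a, haH, ha, rfl⟩
      exact ⟨a, ha, by simp⟩
    · rintro ⟨a, ha, e⟩
      exact ⟨a, hCH ha, ha, Subtype.ext e⟩
  have hle : ∀ (x : P), x ∈ H → cj C x ≤ H := fun x hx =>
    (cj_mono hCH x).trans (cj_eq_self_of_mem hx).le
  have htorus := exists_torus hCH (hF.trans hcard) R hRb ψ (fun g v => hact g v) t hcomm
    (fun v hv h => hneg0 v hv ((hψ0 v).1 h)) hcn hfc hcc
  refine ⟨t, hCH, t'.2, hcomm, hsq, fun v hv => hz v ?_, hcn, hfx, hfc, hcc, e1, hfree, fun h hh hhM => ?_,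
    fun h hh hhM => ?_, fun c hc h hh hhM hcM => ?_, ?_, fun u hu => ?_, fun u hu l hl => ?_, htorus,
    F, inferInstance, inferInstance, hF.trans hcard, ⟨MulEquiv.ofBijective R hRb⟩⟩
  · conv_lhs => rw [← hv]
    exact hψt v
  · have := (D.equalities (x := ⟨h, hh⟩) hhM).2.2.1
    rwa [hconj h hh, fixed_comp_subgroupOf hCH, fixed_comp_subgroupOf (hle h hh)] at this
  · have := D.gen ⟨h, hh⟩ hhM
    rw [hconj h hh, ← Subgroup.subgroupOf_sup hCH (hle h hh), Subgroup.subgroupOf_eq_top] at this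
    exact le_antisymm (sup_le hCH (hle h hh)) this
  · exact congrArg Subtype.val (D.trivial_core (a := ⟨c, hCH hc⟩) hc (x := ⟨h, hh⟩) hhM
      (show h⁻¹ * c * h ∈ M from mem_cj.1 hcM))
  · exact ⟨x₀, x₀.2, hx₀⟩
  · by_cases hu0 : u = 0
    · exact ⟨1, one_mem H, hu0 ▸ zero_mem _⟩
    obtain ⟨l, hl, hl0⟩ : ∃ l ∈ cen φ C, l ≠ 0 := by
      by_contra hcon
      push Not at hcon
      have : Nat.card (cen φ C) = 1 := by
        rw [show cen φ C = ⊥ from eq_bot_iff.2 fun l hl => hcon l hl, AddSubgroup.card_bot]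
      have := D.two_le_card
      rw [hcard] at this
      omega
    have hne : ∀ w ∈ neg φ t, w ≠ 0 → ψ w ≠ 0 := fun w hw hw0 h => hw0 (hneg0 w hw ((hψ0 w).1 h))
    obtain ⟨A, hA⟩ := exists_sl2_col (ψ l) (hne l (hcn hl) hl0)
    obtain ⟨B, hB⟩ := exists_sl2_col (ψ u) (hne u hu hu0)
    obtain ⟨g, hg⟩ := hRb.2 (B * A⁻¹)
    refine ⟨g, g.2, ?_⟩
    have h1 : φ (g : P) l ∈ cen φ (cj C g) := act_mem_cen φ _ hl
    have h2 : φ (g : P) l - u ∈ fixed φ H := (hψ0 _).1 (by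
      rw [map_sub, show ψ (φ (g : P) l) = _ from hact g l, hg, ← hA, Matrix.mulVec_mulVec, ← hB, sub_eq_zero,
        ← Matrix.SpecialLinearGroup.coe_mul, inv_mul_cancel_right])
    have h3 : φ (g : P) l ∈ neg φ t := by
      rw [mem_neg, ← act_mul, (hcomm g g.2).eq, act_mul, mem_neg φ |>.1 (hcn hl), map_neg]
    rwa [sub_eq_zero.1 (hneg0 _ (sub_mem h3 hu) h2)] at h1
  · let f : C → cen φ C := fun c => ⟨φ (c : P) u - u, sub_mem_cen φ c.2 u⟩
    have hinj : Function.Injective f := fun c d e => by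
      by_contra hne
      refine hu (hfree ((c : P)⁻¹ * d) (mul_mem (inv_mem c.2) d.2)
        (fun h => hne (Subtype.ext (inv_mul_eq_one.1 h))) u ?_)
      have e' : φ (c : P) u = φ (d : P) u := sub_left_inj.1 (congrArg Subtype.val e)
      rw [act_mul, ← e', act_inv_self]
    obtain ⟨c, hc⟩ := ((Nat.bijective_iff_injective_and_card f).2 ⟨hinj, hcc.symm⟩).2 ⟨l, hl⟩
    exact ⟨c, c.2, congrArg Subtype.val hc⟩

/-- The natural `SL₂` inside a subgroup normalizing the frame and not inside `M`. -/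
theorem Frame.exists_natH {T : Subgroup P} {R : Set (Subgroup P)} (F : Frame φ p M T R) (K : Ctx φ p M)
    {C N : Subgroup P} (hC : Mem φ p C) (hCR : C ∉ R) (hCM : C ≤ M) (hCN : C ≤ N) (hN : N ≤ stab R)
    {y₀ : P} (hy₀ : y₀ ∈ N) (hy₀M : y₀ ∉ M) : ∃ H t, H ≤ N ∧ NatH φ M C H t := by
  classical
  obtain ⟨y, ⟨hy, hyM⟩, hmin⟩ := Set.exists_min_image {y | y ∈ N ∧ y ∉ M}
    (fun y => Nat.card (C ⊔ cj C y : Subgroup P)) (Set.toFinite _) ⟨y₀, hy₀, hy₀M⟩
  set H := C ⊔ cj C y with hH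
  have hHN : H ≤ N := sup_le hCN ((cj_mono hCN y).trans (cj_eq_self_of_mem hy).le)
  have hnot : ∀ x ∈ N, x ∉ M → ¬ cj C x ≤ M := fun x hx hxM =>
    F.not_le_M K hC (hCN.trans hN) hCR hCM (hN hx) hxM
  have hgen : ∀ x ∈ H, x ∉ M → C ⊔ cj C x = H := fun x hx hxM => by
    refine Subgroup.eq_of_le_of_card_ge (sup_le le_sup_left ?_) (hmin x ⟨hHN hx, hxM⟩)
    exact (cj_mono (le_sup_left : C ≤ H) x).trans (cj_eq_self_of_mem hx).le
  obtain ⟨x₀, hx₀, hx₀M⟩ := SetLike.not_le_iff_exists.1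
    (fun h : H ≤ M => hnot y hy hyM (le_sup_right.trans h))
  obtain ⟨TH, hTH, hCT⟩ := exists_sylIn_ge hC.isP (le_inf le_sup_left hCM : C ≤ H ⊓ M)
  have hTHH : TH ≤ H := hTH.le.trans inf_le_left
  have hnn : ∀ x ∈ H, x ∈ Subgroup.normalizer (TH : Set P) → x ∈ M := fun x hx hxn => by
    by_contra hxM
    exact hnot x (hHN hx) hxM ((cj_mono hCT x).trans ((cj_eq_self hxn).le.trans (hTH.le.trans inf_le_right)))
  have hsyl : SylIn p TH H := by
    obtain ⟨S', hS', hle⟩ := exists_sylIn_ge hTH.isPGroup hTHH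
    suffices TH = S' from this ▸ hS'
    by_contra hne
    refine (SylIn.normalizer_growth hle hne hS'.isPGroup).ne ?_
    refine (hTH.eq_of_le hS'.isPGroup.to_inf_left (le_inf hle Subgroup.le_normalizer) fun x hx => ?_).symm
    exact ⟨hS'.le hx.1, hnn x (hS'.le hx.1) hx.2⟩
  have D : Data (φ.comp H.subtype) (C.subgroupOf H) (TH.subgroupOf H) (M.subgroupOf H) p :=
    { exp := K.exp
      M_ne := fun e => hx₀M (Subgroup.subgroupOf_eq_top.1 e hx₀)
      syl := ⟨le_top, hTH.isPGroup.comap_subtype, by rw [Subgroup.relIndex_top_right]; exact hsyl.not_dvd⟩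
      T_le := fun x hx => (hTH.le hx).2
      A_le := fun x hx => hCT hx
      not_normal := fun hn => hx₀M (hnn x₀ hx₀ (by
        have := (Subgroup.normal_subgroupOf_iff_le_normalizer hTHH).1 hn
        exact this hx₀))
      gen := fun x hx => by
        have e : (C.subgroupOf H).map (MulAut.conj x).toMonoidHom = (cj C x).subgroupOf H := by
          ext z
          simp only [Subgroup.mem_subgroupOf, Subgroup.mem_map, MulEquiv.toMonoidHom_eq_coe, MonoidHom.coe_coe,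
            MulAut.conj_apply, Subtype.exists]
          constructor
          · rintro ⟨a, haH, ha, rfl⟩
            exact ⟨a, ha, by simp⟩
          · rintro ⟨a, ha, e⟩
            exact ⟨a, (le_sup_left : C ≤ H) ha, ha, Subtype.ext e⟩
        have hle : cj C x ≤ H := (cj_mono (le_sup_left : C ≤ H) x).trans (cj_eq_self_of_mem x.2).le
        rw [e, ← Subgroup.subgroupOf_sup le_sup_left hle, Subgroup.subgroupOf_eq_top]
        exact (hgen x x.2 hx).ge
      quad := fun a ha v c hc => hC.quad K.exp K.faithful a ha v c hc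
      off := by
        rw [fixed_comp_subgroupOf le_sup_left, Nat.card_congr (Subgroup.subgroupOfEquivOfLe le_sup_left).toEquiv]
        exact hC.le_off
      strict := fun A₀ h0 hne hne' => by
        have h1 : A₀.map H.subtype ≤ C := by rintro _ ⟨a, ha, rfl⟩; exact h0 ha
        have h2 : fixed (φ.comp H.subtype) A₀ = fixed φ (A₀.map H.subtype) := by
          ext v
          exact ⟨fun hv => by rintro _ ⟨a, ha, rfl⟩; exact hv a ha, fun hv a ha => hv a ⟨a, ha, rfl⟩⟩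
        rw [h2, ← Subgroup.card_map_of_injective H.subtype_injective, fixed_comp_subgroupOf le_sup_left,
          Nat.card_congr (Subgroup.subgroupOfEquivOfLe le_sup_left).toEquiv]
        refine lt_of_lt_of_le (hC.min _ h1 (fun e => hne ?_) fun e => hne' ?_) hC.le_off
        · exact (Subgroup.map_eq_bot_iff_of_injective _ H.subtype_injective).1 e
        · rw [← e, Subgroup.subgroupOf, Subgroup.comap_map_eq_self_of_injective H.subtype_injective]
      faithful := fun g hg => Subtype.ext (K.faithful g hg)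
      moved := by
        obtain ⟨Ts, hTs, hTsM, hle⟩ := K.exists_syl_ge hTH.isPGroup (g := 1)
          (by rw [cj_one]; exact hTH.le.trans inf_le_right)
        rw [cj_one] at hTsM
        obtain ⟨z, hz, hzm⟩ := K.moved Ts hTs hTsM x₀ hx₀M
        exact ⟨z, fun c hc => hz c (hle hc), ⟨x₀, hx₀⟩, hzm⟩ }
  obtain ⟨t, ht⟩ := natH_of_data K.two le_sup_left hTHH D
  exact ⟨H, t, hHN, ht⟩

end Cfsg.Agent.OffProd
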